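import Mathlib

/-!
# The arithmetic of the character argument (helper860)
-/

set_option autoImplicit false

namespace Cfsg.Agent.LargeExtra.W2.CharKill

theorem arith {m : ℕ} (hm9 : m % 9 = 1) (hm4 : m % 4 = 3) {A B : ℤ}
    (h1 : ((576 * m : ℕ) : ℤ) * (A - B) ^ 2 = 5971968 * (A * (A + 1)))
    (h2 : 1 + B ^ 2 + 4 * (1 + B) ^ 2 ≤ 576) (h3 : ∃ k : ℤ, A + B = 18 * k + 2) : False := by
  have hm6 : Nat.Coprime m 6 := by
    have h4 : Nat.Coprime m 2 := by
      rw [Nat.coprime_comm, Nat.Prime.coprime_iff_not_dvd Nat.prime_two]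
      omega
    have h5 : Nat.Coprime m 3 := by
      rw [Nat.coprime_comm, Nat.Prime.coprime_iff_not_dvd Nat.prime_three]
      omega
    rw [show (6 : ℕ) = 2 * 3 by norm_num]
    exact Nat.Coprime.mul_right h4 h5
  obtain ⟨k, hk⟩ := h3
  have e1 : (m : ℤ) * (A - B) ^ 2 = 10368 * (A * (A + 1)) := by
    have h4 : (576 : ℤ) * ((m : ℤ) * (A - B) ^ 2) = 576 * (10368 * (A * (A + 1))) := by
      push_cast at h1
      linarith
    exact mul_left_cancel₀ (by norm_num) h4
  obtain ⟨c, hc⟩ := Int.even_mul_succ_self A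
  have e2 : ((144 : ℤ) ^ 2) ∣ (m : ℤ) * (A - B) ^ 2 := ⟨c, by rw [e1, hc]; ring⟩
  have hcop : IsCoprime ((144 : ℤ) ^ 2) (m : ℤ) := by
    have h4 : IsCoprime ((6 : ℤ) ^ 8) (m : ℤ) := by
      have : IsCoprime ((6 : ℕ) : ℤ) ((m : ℕ) : ℤ) := Nat.isCoprime_iff_coprime.2 hm6.symm
      exact IsCoprime.pow_left this
    exact IsCoprime.of_isCoprime_of_dvd_left h4 (by norm_num)
  have e3 : (144 : ℤ) ∣ A - B := by
    rw [← Int.pow_dvd_pow_iff two_ne_zero]
    exact hcop.dvd_of_dvd_mul_left e2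
  obtain ⟨t, ht⟩ := e3
  have hB1 : -11 ≤ B := by nlinarith
  have hB2 : B ≤ 9 := by nlinarith
  have hB : B = -8 ∨ B = 1 := by omega
  have hA' : A = B + 144 * t := by linarith
  rcases hB with hB | hB
  · rw [hB] at hA'
    have e4 : (m : ℤ) * t ^ 2 = 4 * ((18 * t - 1) * (144 * t - 7)) := by
      rw [ht, hA'] at e1
      have : (20736 : ℤ) * ((m : ℤ) * t ^ 2) = 20736 * (4 * ((18 * t - 1) * (144 * t - 7))) := by
        linear_combination e1
      exact mul_left_cancel₀ (by norm_num) this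
    have e5 : Even t := by
      have h4 : Even ((m : ℤ) * t ^ 2) := by rw [e4]; exact ⟨2 * ((18 * t - 1) * (144 * t - 7)), by ring⟩
      rw [Int.even_mul] at h4
      rcases h4 with h4 | h4
      · exfalso
        rw [Int.even_coe_nat, Nat.even_iff] at h4
        omega
      · exact (Int.even_pow.1 h4).1
    obtain ⟨s, hs⟩ := e5
    have hs' : t = 2 * s := by linarith
    have e6 : (m : ℤ) * s ^ 2 = (36 * s - 1) * (288 * s - 7) := by
      rw [hs'] at e4
      have : (4 : ℤ) * ((m : ℤ) * s ^ 2) = 4 * ((36 * s - 1) * (288 * s - 7)) := by linear_combination e4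
      exact mul_left_cancel₀ (by norm_num) this
    have e7 : s ∣ 7 := ⟨m * s - 10368 * s + 540, by linear_combination -e6⟩
    have e8 : s = 1 ∨ s = -1 ∨ s = 7 ∨ s = -7 := by
      have h4 : s.natAbs ∣ 7 := by
        have := Int.natAbs_dvd_natAbs.2 e7
        simpa using this
      have h5 := (Nat.dvd_prime (by norm_num)).1 h4
      omega
    rcases e8 with rfl | rfl | rfl | rfl <;> omega
  · rw [hB] at hA'
    have e4 : (m : ℤ) * t ^ 2 = (1 + 144 * t) * (1 + 72 * t) := by
      rw [ht, hA'] at e1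
      have : (20736 : ℤ) * ((m : ℤ) * t ^ 2) = 20736 * ((1 + 144 * t) * (1 + 72 * t)) := by
        linear_combination e1
      exact mul_left_cancel₀ (by norm_num) this
    have e7 : t ∣ 1 := ⟨m * t - 10368 * t - 216, by linear_combination -e4⟩
    have e8 : t = 1 ∨ t = -1 := Int.isUnit_iff.1 (isUnit_of_dvd_one e7)
    rcases e8 with rfl | rfl <;> omega

end Cfsg.Agent.LargeExtra.W2.CharKill
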