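import Cfsg.Agent.LargeExtra.W2.CharKill.Setup
import Cfsg.Agent.Characters.ClassMul
import Cfsg.Agent.TwoFusion.DihedralFusion

/-!
# Counting involutions modulo 9 and modulo 4 (helper860)
-/

set_option autoImplicit false
set_option maxRecDepth 100000

namespace Cfsg.Agent.LargeExtra.W2.CharKill

universe u

theorem W3 : ∀ a b : S4, od a = od b → a ^ 9 = 1 → b ^ 9 = 1 → (a, b) ≠ (1 : S4 × S4) → Dw (a, b) = true := by
  decide +kernel

theorem W4a : ∀ a : S4, a ^ 9 = 1 → a ≠ 1 → ∀ t : S4, t * t = 1 → t * a = a * t → t = 1 := by decide +kernel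

theorem W4b : ∀ b : S4, od b = false → b * b = 1 → kap b 0 = 0 := by decide +kernel

/-- pattern of the solutions of `c² = 1` -/
def SS (w : S4 × S4) : Bool := TT w || (VV w && (decide (w.1 = 1) == decide (w.2 = 1)))

theorem card_SS : (W.filter (fun w => SS w = true)).card = 46 := by decide +kernel

/-- involutions of `G` -/
abbrev Inv (G : Type u) [Group G] : Type u := {x : G // x * x = 1 ∧ x ≠ 1}

/-- involutions commuting with `t` -/
abbrev InvC (G : Type u) [Group G] (t : G) : Type u := {x : G // (x * x = 1 ∧ x ≠ 1) ∧ x * t = t * x}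

/-- Burnside's lemma for the action of `H` on the involutions -/
theorem burnside {G : Type u} [Group G] [Finite G] (H : Subgroup G) (k : ℕ)
    (hk : ∀ h ∈ H, h ≠ 1 → Nat.card (InvC G h) = k) :
    Nat.card H ∣ Nat.card (Inv G) + (Nat.card H - 1) * k := by
  classical
  have := Fintype.ofFinite G
  have := Fintype.ofFinite H
  let act : MulAction H (Inv G) :=
    { smul := fun h x => ⟨h * x * (h : G)⁻¹, by
        constructor
        · calc (h : G) * x * (h : G)⁻¹ * (h * x * (h : G)⁻¹) = h * (x * x) * (h : G)⁻¹ := by group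
            _ = 1 := by rw [x.2.1]; group
        · intro e
          apply x.2.2
          calc (x : G) = (h : G)⁻¹ * (h * x * (h : G)⁻¹) * h := by group
            _ = 1 := by rw [e]; group⟩
      one_smul := fun x => Subtype.ext (by show (1 : G) * x * (1 : G)⁻¹ = x; group)
      mul_smul := fun g h x => Subtype.ext (by
        show ((g : G) * h) * x * ((g : G) * h)⁻¹ = g * (h * x * (h : G)⁻¹) * (g : G)⁻¹
        group) }
  have h1 := MulAction.sum_card_fixedBy_eq_card_orbits_mul_card_group H (Inv G)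
  have hfix : ∀ h : H, Fintype.card (MulAction.fixedBy (Inv G) h) = Nat.card (InvC G (h : G)) := by
    intro h
    rw [← Nat.card_eq_fintype_card]
    refine Nat.card_congr ⟨fun x => ⟨(x.1 : G), x.1.2, ?_⟩, fun x => ⟨⟨x.1, x.2.1⟩, ?_⟩, fun x => rfl, fun x => rfl⟩
    · have h2 : (h : G) * (x.1 : G) * (h : G)⁻¹ = x.1 := congrArg Subtype.val x.2
      rw [mul_inv_eq_iff_eq_mul] at h2
      exact h2.symm
    · apply Subtype.ext
      show (h : G) * x.1 * (h : G)⁻¹ = x.1
      rw [← x.2.2]
      group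
  have hone : Nat.card (InvC G (1 : G)) = Nat.card (Inv G) :=
    Nat.card_congr ⟨fun x => ⟨x.1, x.2.1⟩, fun x => ⟨x.1, x.2, by group⟩, fun x => rfl, fun x => rfl⟩
  have h2 : ∑ h : H, Fintype.card (MulAction.fixedBy (Inv G) h) = Nat.card (Inv G) + (Nat.card H - 1) * k := by
    rw [← Finset.add_sum_erase Finset.univ _ (Finset.mem_univ (1 : H)), hfix, Subgroup.coe_one, hone]
    congr 1
    rw [Finset.sum_congr rfl (g := fun _ => k) (fun h hh => ?_), Finset.sum_const, smul_eq_mul,
      Finset.card_erase_of_mem (Finset.mem_univ _), Finset.card_univ, Nat.card_eq_fintype_card]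
    rw [hfix]
    exact hk h h.2 (fun e => (Finset.mem_erase.1 hh).1 (Subtype.ext e))
  rw [h2] at h1
  rw [h1, Nat.card_eq_fintype_card]
  exact Dvd.intro_left _ rfl

namespace Setup

variable {G : Type u} [Group G] {z : G} {C : Subgroup G} {Φ : C →* S4 × S4}

theorem orderOf_iff {x : G} : orderOf x = 2 ↔ x * x = 1 ∧ x ≠ 1 := by
  constructor
  · intro h
    refine ⟨by rw [← pow_two, ← h, pow_orderOf_eq_one], ?_⟩
    rintro rfl
    rw [orderOf_one] at h
    omega
  · rintro ⟨h1, h2⟩
    exact orderOf_eq_prime (by rw [pow_two]; exact h1) h2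

theorem comm (h : Setup z C Φ) (c : C) : (c : G) * z = z * c :=
  Subgroup.mem_centralizer_singleton_iff.1 (h.hC.le c.2)

/-- the number of involutions is the index of `C` -/
theorem card_inv [Finite G] (h : Setup z C Φ) : Nat.card (Inv G) = C.index := by
  classical
  have := Fintype.ofFinite G
  have h1 := Cfsg.Agent.Characters.ClassMul.card_filter_isConj z
  rw [← h.hC] at h1
  rw [← h1, Nat.card_eq_fintype_card, Fintype.card_subtype]
  congr 1
  ext x
  simp only [Finset.mem_filter, Finset.mem_univ, true_and]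
  constructor
  · intro hx
    exact h.cls x (orderOf_iff.2 hx)
  · intro hx
    obtain ⟨g, hg⟩ := isConj_iff.1 hx
    have hz := orderOf_iff.1 h.ord
    rw [← hg]
    constructor
    · calc g * z * g⁻¹ * (g * z * g⁻¹) = g * (z * z) * g⁻¹ := by group
        _ = 1 := by rw [hz.1]; group
    · intro e
      apply hz.2
      calc z = g⁻¹ * (g * z * g⁻¹) * g := by group
        _ = 1 := by rw [e]; group

/-- `92` solutions of `c² = 1` in `C` -/
theorem card_sq [Finite G] (h : Setup z C Φ) : Nat.card {c : C // c * c = 1} = 92 := by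
  classical
  have := Fintype.ofFinite C
  rw [Nat.card_eq_fintype_card, Fintype.card_subtype]
  have h1 := h.card_comp SS
  rw [card_SS] at h1
  rw [← show 2 * 46 = 92 by norm_num, ← h1]
  congr 1
  ext c
  simp only [Finset.mem_filter, Finset.mem_univ, true_and]
  have h2 : SS (Φ c) = true ↔ TT (Φ c) = true ∨ (VV (Φ c) = true ∧ ((Φ c).1 = 1 ↔ (Φ c).2 = 1)) := by
    unfold SS
    rw [Bool.or_eq_true, Bool.and_eq_true, beq_iff_eq, decide_eq_decide]
  rw [h2]
  constructor
  · intro hc
    have h3 : Φ c * Φ c = 1 := by rw [← map_mul, hc, map_one]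
    rcases sq_one (h.sgn c) h3 with h4 | h4
    · exact Or.inl h4
    · exact Or.inr ⟨h4, (h.sqV c h4).1 hc⟩
  · rintro (h3 | ⟨h3, h4⟩)
    · exact h.inv c h3
    · exact (h.sqV c h3).2 h4

/-- `91` involutions commute with `z` -/
theorem card_invC_z [Finite G] (h : Setup z C Φ) : Nat.card (InvC G z) = 91 := by
  classical
  have := Fintype.ofFinite G
  have h1 := h.card_sq
  have h2 : Nat.card (InvC G z) + 1 = Nat.card {c : C // c * c = 1} := by
    have e : Option (InvC G z) ≃ {c : C // c * c = 1} := by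
      refine Equiv.ofBijective (fun o => match o with
        | none => ⟨1, one_mul 1⟩
        | some x => ⟨⟨x.1, by rw [h.hC, Subgroup.mem_centralizer_singleton_iff]; exact x.2.2⟩,
            Subtype.ext x.2.1.1⟩) ⟨?_, ?_⟩
      · rintro (_ | x) (_ | y) hxy
        · rfl
        · exfalso
          exact y.2.1.2 (congrArg (fun c => ((c : C) : G)) (congrArg Subtype.val hxy)).symm
        · exfalso
          exact x.2.1.2 (congrArg (fun c => ((c : C) : G)) (congrArg Subtype.val hxy))
        · have : (x : G) = y := congrArg (fun c => ((c : C) : G)) (congrArg Subtype.val hxy)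
          rw [Subtype.ext this]
      · intro c
        by_cases hc : c.1 = 1
        · exact ⟨none, Subtype.ext hc.symm⟩
        · exact ⟨some ⟨(c.1 : G), ⟨congrArg Subtype.val c.2, fun e => hc (Subtype.ext e)⟩, h.comm c.1⟩, rfl⟩
    rw [← Nat.card_congr e, Finite.card_option]
  omega

theorem card_invC [Finite G] (h : Setup z C Φ) {t : G} (ht : t * t = 1) (ht1 : t ≠ 1) :
    Nat.card (InvC G t) = 91 := by
  rw [← h.card_invC_z]
  obtain ⟨g, hg⟩ := isConj_iff.1 (h.cls t (orderOf_iff.2 ⟨ht, ht1⟩))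
  have key : ∀ (g : G) {a b : G}, g * a * g⁻¹ = b → ∀ x : InvC G b,
      (((g⁻¹ * x.1 * g) * (g⁻¹ * x.1 * g) = 1 ∧ g⁻¹ * x.1 * g ≠ 1) ∧ (g⁻¹ * x.1 * g) * a = a * (g⁻¹ * x.1 * g)) := by
    intro g a b hab x
    have ha : a = g⁻¹ * b * g := by rw [← hab]; group
    refine ⟨⟨?_, ?_⟩, ?_⟩
    · calc g⁻¹ * x.1 * g * (g⁻¹ * x.1 * g) = g⁻¹ * (x.1 * x.1) * g := by group
        _ = 1 := by rw [x.2.1.1]; group
    · intro e
      apply x.2.1.2
      calc (x.1 : G) = g * (g⁻¹ * x.1 * g) * g⁻¹ := by group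
        _ = 1 := by rw [e]; group
    · rw [ha]
      calc g⁻¹ * x.1 * g * (g⁻¹ * b * g) = g⁻¹ * (x.1 * b) * g := by group
        _ = g⁻¹ * b * g * (g⁻¹ * x.1 * g) := by rw [x.2.2]; group
  have hg' : g⁻¹ * t * g⁻¹⁻¹ = z := by rw [← hg]; group
  refine Nat.card_congr ⟨fun x => ⟨g⁻¹ * x.1 * g, key g hg x⟩, fun x => ⟨g⁻¹⁻¹ * x.1 * g⁻¹, key g⁻¹ hg' x⟩, ?_, ?_⟩
  · intro x
    apply Subtype.ext
    show g⁻¹⁻¹ * (g⁻¹ * x.1 * g) * g⁻¹ = x.1
    group
  · intro x
    apply Subtype.ext
    show g⁻¹ * (g⁻¹⁻¹ * x.1 * g⁻¹) * g = x.1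
    group

/-- the number of involutions is `3` modulo `4` -/
theorem mod_four [Finite G] (h : Setup z C Φ) : C.index % 4 = 3 := by
  obtain ⟨c, hc⟩ := h.surj (Equiv.swap 0 1, Equiv.swap 0 1) (by decide)
  have hTT : TT (Φ c) = true := by rw [hc]; decide
  have hcc := h.inv c hTT
  have hzz := (orderOf_iff.1 h.ord).1
  have htt : (c : G) * c = 1 := congrArg Subtype.val hcc
  have ht1 : (c : G) ≠ 1 := by
    intro e
    have : c = 1 := Subtype.ext e
    rw [this, map_one] at hTT
    revert hTT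
    decide
  have htz : (z : G) ≠ c := by
    intro e
    have : Φ c = 1 := h.phiz c e.symm
    rw [this] at hTT
    revert hTT
    decide
  have hcomm : z * c = c * z := (h.comm c).symm
  have hV := Cfsg.Agent.TwoFusion.DihedralFusion.isKleinFour_fourGroup hzz htt hcomm h.z_ne ht1 htz
  have h1 := burnside (Cfsg.Agent.TwoFusion.DihedralFusion.fourGroup z (c : G) hzz htt hcomm) 91 (by
    intro v hv hv1
    exact h.card_invC (Cfsg.Agent.TwoFusion.DihedralFusion.sq_of_mem_fourGroup hzz htt hcomm hv) hv1)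
  rw [hV.card_four, h.card_inv] at h1
  omega

/-- the number of involutions is `1` modulo `9` -/
theorem mod_nine [Finite G] (h : Setup z C Φ) : C.index % 9 = 1 := by
  classical
  have : Fact (Nat.Prime 3) := ⟨Nat.prime_three⟩
  obtain ⟨P⟩ : Nonempty (Sylow 3 C) := inferInstance
  have hP : Nat.card (P : Subgroup C) = 9 := by
    have h1 := P.card_eq_multiplicity
    have h3 : (576 : ℕ).factorization 3 = 2 := by
      rw [show (576 : ℕ) = 3 ^ 2 * 64 by norm_num, Nat.factorization_mul (by norm_num) (by norm_num),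
        Finsupp.add_apply, Nat.Prime.factorization_pow (by norm_num), Finsupp.single_eq_same,
        Nat.factorization_eq_zero_of_not_dvd (by norm_num)]
    rw [h.card, h3] at h1
    exact h1
  have h1 := burnside ((P : Subgroup C).map C.subtype) 1 (by
    rintro _ ⟨c, hcP, rfl⟩ hc1
    have hc9 : c ^ 9 = 1 := by
      have h2 : (⟨c, hcP⟩ : (P : Subgroup C)) ^ (Nat.card (P : Subgroup C)) = 1 := pow_card_eq_one'
      rw [hP] at h2
      exact congrArg Subtype.val h2
    have hΦ9 : (Φ c) ^ 9 = 1 := by rw [← map_pow, hc9, map_one]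
    have hΦ1 : Φ c ≠ 1 := by
      intro e
      rcases (h.ker c).1 e with e1 | e1
      · exact hc1 (congrArg Subtype.val e1)
      · have hzz : c * c = 1 := by
          rw [e1]
          exact Subtype.ext (orderOf_iff.1 h.ord).1
        have : c = 1 := by
          have h5 : c ^ 9 = (c * c) ^ 4 * c := by rw [← pow_two, ← pow_mul, ← pow_succ]
          rw [hc9, hzz, one_pow, one_mul] at h5
          exact h5.symm
        exact hc1 (congrArg Subtype.val this)
    have hD : Dw (Φ c) = true := W3 _ _ (h.sgn c) (congrArg Prod.fst hΦ9) (congrArg Prod.snd hΦ9) hΦ1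
    -- the only involution commuting with `c` is `z`
    have huniq : ∀ t : G, t * t = 1 → t ≠ 1 → t * c = c * t → t = z := by
      intro t ht ht1 htc
      have htC : t ∈ C := h.ti t c c hD hD (by rw [htc]; group)
      have e1 : Φ ⟨t, htC⟩ * Φ ⟨t, htC⟩ = 1 := by
        rw [← map_mul]
        have : (⟨t, htC⟩ : C) * ⟨t, htC⟩ = 1 := Subtype.ext ht
        rw [this, map_one]
      have e2 : Φ ⟨t, htC⟩ * Φ c = Φ c * Φ ⟨t, htC⟩ := by
        rw [← map_mul, ← map_mul]
        congr 1
        exact Subtype.ext htc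
      have hsg := h.sgn ⟨t, htC⟩
      have hor : (Φ ⟨t, htC⟩).1 = 1 ∨ (Φ ⟨t, htC⟩).2 = 1 := by
        by_cases h3 : (Φ c).1 = 1
        · right
          have h4 : (Φ c).2 ≠ 1 := fun h5 => hΦ1 (Prod.ext h3 h5)
          exact W4a _ (congrArg Prod.snd hΦ9) h4 _ (congrArg Prod.snd e1) (congrArg Prod.snd e2)
        · left
          exact W4a _ (congrArg Prod.fst hΦ9) h3 _ (congrArg Prod.fst e1) (congrArg Prod.fst e2)
      have hod1 : od (1 : S4) = false := by decide
      have hevenb : od (Φ ⟨t, htC⟩).1 = false ∧ od (Φ ⟨t, htC⟩).2 = false := by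
        rcases hor with h3 | h3
        · rw [← hsg, h3]; exact ⟨hod1, hod1⟩
        · rw [hsg, h3]; exact ⟨hod1, hod1⟩
      have hVV : VV (Φ ⟨t, htC⟩) = true := by
        unfold VV
        rw [hevenb.1, hevenb.2, W4b _ hevenb.1 (congrArg Prod.fst e1), W4b _ hevenb.2 (congrArg Prod.snd e1)]
        rfl
      have h4 := (h.sqV _ hVV).1 (Subtype.ext ht)
      have h5 : Φ ⟨t, htC⟩ = 1 := by
        rcases hor with h3 | h3
        · exact Prod.ext h3 (h4.1 h3)
        · exact Prod.ext (h4.2 h3) h3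
      rcases (h.ker _).1 h5 with e3 | e3
      · exact absurd (congrArg Subtype.val e3) ht1
      · exact congrArg Subtype.val e3
    rw [Nat.card_eq_one_iff_unique]
    refine ⟨⟨fun a b => Subtype.ext ?_⟩, ⟨⟨z, orderOf_iff.1 h.ord, ?_⟩⟩⟩
    · rw [huniq a.1 a.2.1.1 a.2.1.2 a.2.2, huniq b.1 b.2.1.1 b.2.1.2 b.2.2]
    · exact (h.comm c).symm)
  rw [Subgroup.card_map_of_injective C.subtype_injective, hP, h.card_inv] at h1
  omega

end Setup

end Cfsg.Agent.LargeExtra.W2.CharKill
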