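import Cfsg.Agent.LargeExtra.W2.CharKill.Numbers
import Cfsg.Agent.LargeExtra.W2.CharKill.Arith
import Cfsg.Agent.LargeExtra.W2.CharKill.Count

/-!
# The character argument: conclusion (helper860)
-/

set_option autoImplicit false
open Cfsg

namespace Cfsg.Agent.LargeExtra.W2.CharKill

universe u

/-- **The character argument.** -/
theorem Setup.false {G : Type u} [Group G] [Finite G] {z : G} {C : Subgroup G}
    {Φ : C →* S4 × S4} (h : Setup z C Φ) : False := by
  obtain ⟨A, B, -, -, e1, e2, -, -, e3⟩ := h.exists_numbers
  have hm : Nat.card G = 576 * C.index := by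
    rw [← C.card_mul_index, h.card]
  rw [hm] at e1
  exact arith h.mod_nine h.mod_four e1 e2 e3

end Cfsg.Agent.LargeExtra.W2.CharKill
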