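import Cfsg.Agent.LargeExtra.W2.CharKill.TiF
import Cfsg.Agent.LargeExtra.W2.CharKill.Final

/-!
# `G₂(3)`: `C_G(x₁)`, `C_G(x₂)` are not both contained in `C_G(z)` (helper860)
-/

set_option autoImplicit false

namespace Cfsg.Agent.LargeExtra.W2.CharKill

open Cfsg Cfsg.Agent.LargeExtra.W2 Cfsg.Agent.LargeExtra.W2.ThreeG.Model

universe u

variable {G : Type u} [Group G] [Finite G] {Q : Subgroup G} {z i j k l x₁ x₂ y : G}

theorem exists_cod (h : Case9c Q z i j k l x₁ x₂ y) (hy : y * y = 1) (c : Subgroup.centralizer ({z} : Set G)) :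
    ∃ m < 576, F z i j k l x₁ x₂ y m = c :=
  exists_code h hy (Subgroup.mem_centralizer_singleton_iff.1 c.2)

/-- the code of an element of `C_G(z)` -/
noncomputable def cod (h : Case9c Q z i j k l x₁ x₂ y) (hy : y * y = 1)
    (c : Subgroup.centralizer ({z} : Set G)) : ℕ := (exists_cod h hy c).choose

theorem cod_lt (h : Case9c Q z i j k l x₁ x₂ y) (hy : y * y = 1) (c : Subgroup.centralizer ({z} : Set G)) :
    cod h hy c < 576 := (exists_cod h hy c).choose_spec.1

theorem F_cod (h : Case9c Q z i j k l x₁ x₂ y) (hy : y * y = 1) (c : Subgroup.centralizer ({z} : Set G)) :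
    F z i j k l x₁ x₂ y (cod h hy c) = c := (exists_cod h hy c).choose_spec.2

theorem cod_eq (h : Case9c Q z i j k l x₁ x₂ y) (hy : y * y = 1) (c : Subgroup.centralizer ({z} : Set G))
    {m : ℕ} (hm : m < 576) (he : F z i j k l x₁ x₂ y m = c) : cod h hy c = m :=
  F_inj h hy (cod_lt h hy c) hm (by rw [F_cod, he])

/-- the map onto the group of order 288 -/
noncomputable def Phi (h : Case9c Q z i j k l x₁ x₂ y) (hy : y * y = 1) :
    Subgroup.centralizer ({z} : Set G) →* S4 × S4 where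
  toFun c := phi (cod h hy c)
  map_one' := by
    rw [cod_eq h hy 1 (m := 0) (by norm_num) (by rw [F_0]; rfl), phi_0]
  map_mul' a b := by
    rw [cod_eq h hy (a * b) (m := mm (cod h hy a) (cod h hy b)) (mm_lt (cod_lt h hy a) (cod_lt h hy b))
      (by rw [F_mul h hy (cod_lt h hy a) (cod_lt h hy b), F_cod, F_cod]; rfl),
      phi_mul (cod_lt h hy a) (cod_lt h hy b)]

theorem Phi_apply (h : Case9c Q z i j k l x₁ x₂ y) (hy : y * y = 1) (c : Subgroup.centralizer ({z} : Set G)) :
    Phi h hy c = phi (cod h hy c) := rfl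

theorem cod_sq (h : Case9c Q z i j k l x₁ x₂ y) (hy : y * y = 1) (c : Subgroup.centralizer ({z} : Set G)) :
    mm (cod h hy c) (cod h hy c) = 0 ↔ c * c = 1 := by
  have h1 := F_mul h hy (cod_lt h hy c) (cod_lt h hy c)
  rw [F_cod] at h1
  constructor
  · intro h2
    rw [h2, F_0] at h1
    exact Subtype.ext h1.symm
  · intro h2
    apply F_inj h hy (mm_lt (cod_lt h hy c) (cod_lt h hy c)) (by norm_num)
    rw [h1, F_0]
    exact congrArg Subtype.val h2

theorem setup (h : Case9c Q z i j k l x₁ x₂ y) (hy : y * y = 1)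
    (hcls : ∀ t : G, orderOf t = 2 → IsConj z t) (h1 : ∀ g, g * x₁ = x₁ * g → g * z = z * g)
    (h2 : ∀ g, g * x₂ = x₂ * g → g * z = z * g) : Setup z (Subgroup.centralizer ({z} : Set G)) (Phi h hy) where
  hC := rfl
  card := h.card_cent
  ord := orderOf_eq_prime (by rw [sq]; exact h.large.z_sq) h.large.z_ne
  sgn c := phi_sgn _ (cod_lt h hy c)
  surj w hw := by
    obtain ⟨m, hm, hmw⟩ := phi_surj hw
    refine ⟨⟨F z i j k l x₁ x₂ y m, Subgroup.mem_centralizer_singleton_iff.2 (F_comm h)⟩, ?_⟩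
    rw [Phi_apply, cod_eq h hy _ hm rfl, hmw]
  phiz c hc := by
    rw [Phi_apply, cod_eq h hy c (m := 16) (by norm_num) (by rw [F_16, hc]), phi_16]
  inv c hc := (cod_sq h hy c).1 (phi_inv _ (cod_lt h hy c) hc)
  sqV c hc := (cod_sq h hy c).symm.trans (phi_sqV _ (cod_lt h hy c) hc)
  cls := hcls
  ti := by
    intro g c c' hc hc' he
    rw [Subgroup.mem_centralizer_singleton_iff]
    refine ti h hy hcls h1 h2 (cod_lt h hy c) (cod_lt h hy c') hc hc' (g := g) ?_
    rw [F_cod, F_cod]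
    exact he

/-- **`G₂(3)`, part (3).** Not both `C_G(x₁)` and `C_G(x₂)` are contained in `C_G(z)`. -/
theorem a_one_false (h : Case9c Q z i j k l x₁ x₂ y) (hyy : y * y = 1)
    (hcls : ∀ t : G, orderOf t = 2 → IsConj z t) (h1 : ∀ g, g * x₁ = x₁ * g → g * z = z * g)
    (h2 : ∀ g, g * x₂ = x₂ * g → g * z = z * g) : False :=
  (setup h hyy hcls h1 h2).false

/-- the form used by `ThreeG.Main.relation` -/
theorem not_le (h : Case9c Q z i j k l x₁ x₂ y) (hyy : y * y = 1)
    (hcls : ∀ t : G, orderOf t = 2 → IsConj z t) :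
    ¬ (Subgroup.centralizer ({x₁} : Set G) ≤ Subgroup.centralizer {z} ∧
      Subgroup.centralizer ({x₂} : Set G) ≤ Subgroup.centralizer {z}) := by
  rintro ⟨h1, h2⟩
  refine a_one_false h hyy hcls (fun g hg => ?_) (fun g hg => ?_)
  · exact Subgroup.mem_centralizer_singleton_iff.1 (h1 (Subgroup.mem_centralizer_singleton_iff.2 hg))
  · exact Subgroup.mem_centralizer_singleton_iff.1 (h2 (Subgroup.mem_centralizer_singleton_iff.2 hg))

end Cfsg.Agent.LargeExtra.W2.CharKill
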