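import Mathlib
import Cfsg.Prelude.Def_Characters
import Cfsg.Agent.Characters.Core
import Cfsg.Agent.Characters.Central
import Cfsg.Agent.Characters.CentInvClassAlg
import Cfsg.Agent.CharactersDeep.IndFun

/-!
# Induction from a subgroup `C` of functions supported on a subset `D` of `C` controlled by `C` (helper860)

`TIset C D`: if `d ∈ D` and `g d g⁻¹ ∈ D` then `g ∈ C`.
-/

set_option autoImplicit false
open Cfsg

namespace Cfsg.Agent.LargeExtra.W2.CharKill

open Cfsg.Agent.Characters.Core Cfsg.Agent.Characters.Central Cfsg.Agent.CharactersDeep.IndFun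
open scoped ComplexConjugate

universe u

/-- conjugation of elements of `D` takes place in `C` -/
def TIset {G : Type u} [Group G] (C : Subgroup G) (D : C → Prop) : Prop :=
  ∀ (g : G) (c c' : C), D c → D c' → g * c * g⁻¹ = c' → g ∈ C

variable {G : Type u} [Group G] [Fintype G]

/-- `Ind β` restricts to `β` on `D`. -/
theorem indFun_apply_of_mem (C : Subgroup G) {D : C → Prop} (hTI : TIset C D) {β : C → ℂ}
    (hβ : IsClassFunction C β) (hβD : ∀ c, β c ≠ 0 → D c) {c : C} (hc : D c) :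
    indFun C β (c : G) = β c := by
  classical
  have : Fintype C := Fintype.ofFinite _
  rw [Cfsg.Agent.CharactersDeep.IndFun.indFun_def]
  have h1 : ∀ x : G, extendByZero C β (x⁻¹ * c * x) = if x ∈ C then β c else 0 := by
    intro x
    split_ifs with hx
    · have h2 : x⁻¹ * (c : G) * x ∈ C := C.mul_mem (C.mul_mem (C.inv_mem hx) c.2) hx
      rw [extendByZero_mem _ _ h2]
      have h3 := hβ c ⟨x⁻¹, C.inv_mem hx⟩
      rw [← h3]
      congr 1
      apply Subtype.ext
      simp
    · by_cases h2 : x⁻¹ * (c : G) * x ∈ C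
      · rw [extendByZero_mem _ _ h2]
        by_contra hne
        apply hx
        have h3 := hβD _ hne
        have h4 := hTI x ⟨_, h2⟩ c h3 hc (by simp [mul_assoc])
        exact h4
      · rw [extendByZero_notMem _ _ h2]
  rw [Finset.sum_congr rfl (fun x _ => h1 x), Finset.sum_ite, Finset.sum_const_zero, add_zero,
    Finset.sum_const, nsmul_eq_mul]
  have h2 : (Finset.univ.filter (fun x : G => x ∈ C)).card = Nat.card C := by
    rw [Nat.card_eq_fintype_card, ← Fintype.card_subtype]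
  rw [h2]
  have : (Nat.card C : ℂ) ≠ 0 := by exact_mod_cast Nat.card_pos.ne'
  field_simp

/-- induction is an isometry on class functions supported on `D`. -/
theorem classInner_indFun_indFun (C : Subgroup G) [Fintype C] {D : C → Prop} (hTI : TIset C D)
    {α β : C → ℂ} (hα : ∀ c, α c ≠ 0 → D c) (hβ : IsClassFunction C β) (hβD : ∀ c, β c ≠ 0 → D c) :
    classInner (indFun C α) (indFun C β) = classInner α β := by
  rw [classInner_indFun C α _ (isClassFunction_indFun C β)]
  unfold classInner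
  congr 1
  refine Finset.sum_congr rfl fun c _ => ?_
  by_cases hc : α c = 0
  · rw [hc, zero_mul, zero_mul]
  · show α c * conj (indFun C β (c : G)) = _
    rw [indFun_apply_of_mem C hTI hβ hβD (hα c hc)]

/-- `Ind β` vanishes at elements not conjugate into the support. -/
theorem indFun_apply_eq_zero (C : Subgroup G) {β : C → ℂ} {g : G}
    (h : ∀ x : G, ∀ c : C, x * g * x⁻¹ = c → β c = 0) : indFun C β g = 0 := by
  rw [Cfsg.Agent.CharactersDeep.IndFun.indFun_def, Finset.sum_eq_zero, mul_zero]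
  intro x _
  by_cases h2 : x⁻¹ * g * x ∈ C
  · rw [extendByZero_mem _ _ h2]
    exact h x⁻¹ ⟨_, h2⟩ (by simp)
  · rw [extendByZero_notMem _ _ h2]

/-- The class algebra identity: `|G| ∑ m_χ χ(t)² / χ(1) = |C| ∑_{x, y} α (x y)`, `x, y` running over the
involutions of `C`. -/
theorem class_algebra [Fintype (IrrCharacter G)] (t : G)
    (ht : orderOf t = 2) (hconj : ∀ x : G, orderOf x = 2 → IsConj t x) (C : Subgroup G)
    (hC : C = Subgroup.centralizer ({t} : Set G)) [Fintype C]
    [∀ x : C, Decidable (orderOf x = 2)] (α : C → ℂ)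
    (hne' : ∀ x y : G, orderOf x = 2 → orderOf y = 2 → ∀ hxy : x * y ∈ C, α ⟨x * y, hxy⟩ ≠ 0 → x ∈ C ∧ y ∈ C)
    (m : IrrCharacter G → ℤ)
    (hm : Cfsg.indFun _ α = ∑ χ : IrrCharacter G, m χ • (χ : G → ℂ)) :
    (Nat.card G : ℂ) * ∑ χ : IrrCharacter G, (m χ : ℂ) * ((χ : G → ℂ) t ^ 2 / (χ : G → ℂ) 1) =
      (Nat.card C : ℂ) * ∑ x : C, ∑ y : C,
        if orderOf x = 2 ∧ orderOf y = 2 then α (x * y) else 0 := by
  classical
  have hcG : (Nat.card G : ℂ) ≠ 0 := by exact_mod_cast Nat.card_pos.ne'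
  have hcC : (Nat.card C : ℂ) ≠ 0 := by exact_mod_cast Nat.card_pos.ne'
  have hcard : Nat.card C = Nat.card (Subgroup.centralizer ({t} : Set G)) := by rw [hC]
  -- first evaluation
  have X1 : ∑ b : G, ∑ a : G, indFun C α (a * t * a⁻¹ * (b * t * b⁻¹)) =
      (Nat.card G : ℂ) * ((Nat.card G : ℂ) * ∑ χ : IrrCharacter G, (m χ : ℂ) * ((χ : G → ℂ) t ^ 2 / (χ : G → ℂ) 1)) := by
    have e1 : ∀ b a : G, indFun C α (a * t * a⁻¹ * (b * t * b⁻¹)) =
        ∑ χ : IrrCharacter G, (m χ : ℂ) * (χ : G → ℂ) (a * t * a⁻¹ * (b * t * b⁻¹)) := by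
      intro b a
      rw [hm, Finset.sum_apply]
      refine Finset.sum_congr rfl fun χ _ => ?_
      rw [Pi.smul_apply, zsmul_eq_mul]
    simp_rw [e1]
    have e2 : ∀ b : G, ∑ a : G, ∑ χ : IrrCharacter G, (m χ : ℂ) * (χ : G → ℂ) (a * t * a⁻¹ * (b * t * b⁻¹)) =
        ∑ χ : IrrCharacter G, (m χ : ℂ) * ((Nat.card G : ℂ) * ((χ : G → ℂ) t ^ 2 / (χ : G → ℂ) 1)) := by
      intro b
      rw [Finset.sum_comm]
      refine Finset.sum_congr rfl fun χ _ => ?_
      rw [← Finset.mul_sum, sum_char_conj_mul χ.2, isIrr_isClassFunction χ.2 t b]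
      ring
    simp_rw [e2]
    rw [Finset.sum_const, Finset.card_univ, nsmul_eq_mul, ← Nat.card_eq_fintype_card]
    congr 1
    rw [Finset.mul_sum]
    refine Finset.sum_congr rfl fun χ _ => ?_
    ring
  -- second evaluation
  have X2 : ∑ b : G, ∑ a : G, indFun C α (a * t * a⁻¹ * (b * t * b⁻¹)) =
      (Nat.card C : ℂ)⁻¹ * ((Nat.card G : ℂ) *
        ∑ b : G, ∑ a : G, extendByZero C α (a * t * a⁻¹ * (b * t * b⁻¹))) := by
    have e1 : ∀ b a : G, indFun C α (a * t * a⁻¹ * (b * t * b⁻¹)) =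
        (Nat.card C : ℂ)⁻¹ * ∑ g : G, extendByZero C α (g⁻¹ * (a * t * a⁻¹ * (b * t * b⁻¹)) * g) :=
      fun b a => rfl
    simp_rw [e1, ← Finset.mul_sum]
    congr 1
    have e2 : ∀ b : G, ∑ a : G, ∑ g : G, extendByZero C α (g⁻¹ * (a * t * a⁻¹ * (b * t * b⁻¹)) * g) =
        ∑ g : G, ∑ a : G, extendByZero C α (g⁻¹ * (a * t * a⁻¹ * (b * t * b⁻¹)) * g) :=
      fun b => Finset.sum_comm
    simp_rw [e2]
    rw [Finset.sum_comm]
    have e3 : ∀ g : G, ∑ b : G, ∑ a : G, extendByZero C α (g⁻¹ * (a * t * a⁻¹ * (b * t * b⁻¹)) * g) =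
        ∑ b : G, ∑ a : G, extendByZero C α (a * t * a⁻¹ * (b * t * b⁻¹)) := by
      intro g
      refine Fintype.sum_equiv (Equiv.mulLeft g⁻¹) _ _ fun b => ?_
      refine Fintype.sum_equiv (Equiv.mulLeft g⁻¹) _ _ fun a => ?_
      congr 1
      simp only [Equiv.coe_mulLeft]
      group
    simp_rw [e3]
    rw [Finset.sum_const, Finset.card_univ, nsmul_eq_mul, ← Nat.card_eq_fintype_card]
  -- reduce to involutions
  have X3 : ∑ b : G, ∑ a : G, extendByZero C α (a * t * a⁻¹ * (b * t * b⁻¹)) =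
      (Nat.card C : ℂ) * ((Nat.card C : ℂ) * ∑ y : G, ∑ x : G,
        if orderOf x = 2 ∧ orderOf y = 2 then extendByZero C α (x * y) else 0) := by
    have e1 : ∀ b : G, ∑ a : G, extendByZero C α (a * t * a⁻¹ * (b * t * b⁻¹)) =
        (Nat.card C : ℂ) * ∑ x : G, if orderOf x = 2 then extendByZero C α (x * (b * t * b⁻¹)) else 0 := by
      intro b
      rw [hcard]
      exact Cfsg.Agent.Characters.CentInvClassAlg.sum_conj_eq t hconj ht
        (fun x => extendByZero C α (x * (b * t * b⁻¹)))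
    simp_rw [e1, ← Finset.mul_sum]
    congr 1
    rw [Cfsg.Agent.Characters.CentInvClassAlg.sum_conj_eq t hconj ht
      (fun y => ∑ x : G, if orderOf x = 2 then extendByZero C α (x * y) else 0), ← hcard]
    congr 1
    refine Finset.sum_congr rfl fun y _ => ?_
    split_ifs with hy
    · refine Finset.sum_congr rfl fun x _ => ?_
      simp [hy]
    · symm
      refine Finset.sum_eq_zero fun x _ => ?_
      simp [hy]
  have hext : ∀ h : C, extendByZero C α (h : G) = α h := fun h =>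
    Subtype.val_injective.extend_apply α 0 h
  have hext0 : ∀ g : G, g ∉ C → extendByZero C α g = 0 := fun g hg =>
    Function.extend_apply' _ _ _ (by rintro ⟨a, rfl⟩; exact hg a.2)
  have hne : ∀ x y : G, orderOf x = 2 → orderOf y = 2 → extendByZero C α (x * y) ≠ 0 → x ∈ C ∧ y ∈ C := by
    intro x y hx hy h
    by_cases hxy : x * y ∈ C
    · have h' := hext ⟨x * y, hxy⟩
      rw [h'] at h
      exact hne' x y hx hy hxy h
    · exact absurd (hext0 _ hxy) h
  have X4 : (∑ y : G, ∑ x : G, if orderOf x = 2 ∧ orderOf y = 2 then extendByZero C α (x * y) else 0) =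
      ∑ x : C, ∑ y : C, if orderOf x = 2 ∧ orderOf y = 2 then α (x * y) else 0 := by
    have hsub : ∀ F : G → ℂ, (∀ g, g ∉ C → F g = 0) → ∑ g : G, F g = ∑ c : C, F c := by
      intro F hF
      rw [← Finset.sum_filter_add_sum_filter_not Finset.univ (fun g => g ∈ C),
        Finset.sum_eq_zero (s := Finset.univ.filter (fun g => ¬ g ∈ C)), add_zero]
      · exact Finset.sum_subtype _ (by simp) _
      · intro g hg
        exact hF g (by simpa using hg)
    rw [Finset.sum_comm, hsub]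
    · refine Finset.sum_congr rfl fun x _ => ?_
      rw [hsub]
      · refine Finset.sum_congr rfl fun y _ => ?_
        rw [← Subgroup.coe_mul, hext, Subgroup.orderOf_coe, Subgroup.orderOf_coe]
        split_ifs <;> rfl
      · intro y hy
        by_contra hcon
        split_ifs at hcon with h
        · exact hy (hne _ _ h.1 h.2 hcon).2
        · exact hcon rfl
    · intro x hx
      refine Finset.sum_eq_zero fun y _ => ?_
      by_contra hcon
      split_ifs at hcon with h
      · exact hx (hne _ _ h.1 h.2 hcon).1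
      · exact hcon rfl
  rw [← X4]
  have key : (Nat.card G : ℂ) * ((Nat.card G : ℂ) * ∑ χ : IrrCharacter G, (m χ : ℂ) * ((χ : G → ℂ) t ^ 2 / (χ : G → ℂ) 1)) =
      (Nat.card G : ℂ) * ((Nat.card C : ℂ) * ∑ y : G, ∑ x : G,
        if orderOf x = 2 ∧ orderOf y = 2 then extendByZero C α (x * y) else 0) := by
    rw [← X1, X2, X3]
    field_simp
  exact mul_left_cancel₀ hcG key

omit [Fintype G] in
/-- two involutions with product in `D` lie in `C` -/
theorem mem_of_mul_mem (C : Subgroup G) {D : C → Prop} (hTI : TIset C D) (hDinv : ∀ c, D c → D c⁻¹)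
    {x y : G} (hx : orderOf x = 2) (hy : orderOf y = 2) (hxy : x * y ∈ C) (hD : D ⟨x * y, hxy⟩) :
    x ∈ C ∧ y ∈ C := by
  have hxx : x * x = 1 := by rw [← pow_two, ← hx, pow_orderOf_eq_one]
  have hyy : y * y = 1 := by rw [← pow_two, ← hy, pow_orderOf_eq_one]
  have hxi : x⁻¹ = x := inv_eq_of_mul_eq_one_left hxx
  have hyi : y⁻¹ = y := inv_eq_of_mul_eq_one_left hyy
  have h1 : x ∈ C := by
    refine hTI x ⟨x * y, hxy⟩ ⟨x * y, hxy⟩⁻¹ hD (hDinv _ hD) ?_
    rw [Subgroup.coe_inv]
    show x * (x * y) * x⁻¹ = (x * y)⁻¹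
    rw [mul_inv_rev, hxi, hyi, ← mul_assoc x x y, hxx, one_mul]
  refine ⟨h1, ?_⟩
  have := C.mul_mem (C.inv_mem h1) hxy
  rwa [inv_mul_cancel_left] at this

end Cfsg.Agent.LargeExtra.W2.CharKill
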