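import Mathlib

/-!
# The group `(A₄ × A₄) : 2` of order 288 inside `S₄ × S₄` and its class functions (helper860)
-/

set_option autoImplicit false
set_option maxRecDepth 100000

namespace Cfsg.Agent.LargeExtra.W2.CharKill

abbrev S4 := Equiv.Perm (Fin 4)

/-- odd permutations -/
def od (a : S4) : Bool :=
  xor (xor (xor (decide (a 1 < a 0)) (decide (a 2 < a 0))) (xor (decide (a 3 < a 0)) (decide (a 2 < a 1))))
    (xor (decide (a 3 < a 1)) (decide (a 3 < a 2)))

/-- action on the three partitions of type `2 + 2` -/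
def kap (a : S4) (i : ZMod 3) : ZMod 3 :=
  if (a 0).1 = 0 then (((a ⟨i.val + 1, by have := i.val_lt; omega⟩).1 - 1 : ℕ) : ZMod 3)
  else if (a ⟨i.val + 1, by have := i.val_lt; omega⟩).1 = 0 then (((a 0).1 - 1 : ℕ) : ZMod 3)
  else ((5 - (a 0).1 - (a ⟨i.val + 1, by have := i.val_lt; omega⟩).1 : ℕ) : ZMod 3)

/-- number of fixed points -/
def fix (a : S4) : ℤ :=
  (if a 0 = 0 then 1 else 0) + (if a 1 = 1 then 1 else 0) + (if a 2 = 2 then 1 else 0) +
    (if a 3 = 3 then 1 else 0)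

theorem od_mul : ∀ a b : S4, od (a * b) = xor (od a) (od b) := by decide +kernel

theorem kap_mul : ∀ a b : S4, ∀ i : ZMod 3, kap (a * b) i = kap a (kap b i) := by decide +kernel

theorem kap_affine : ∀ a : S4, ∀ i : ZMod 3, kap a i = kap a 0 + (if od a then -i else i) := by decide +kernel

/-- number of fixed points of a map on `ZMod 3` -/
def fix3 (f : ZMod 3 → ZMod 3) : ℤ :=
  (if f 0 = 0 then 1 else 0) + (if f 1 = 1 then 1 else 0) + (if f 2 = 2 then 1 else 0)

/-- the four actions on three points -/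
def act3 (j : Fin 4) (w : S4 × S4) : ZMod 3 → ZMod 3 :=
  match j with
  | 0 => kap w.1
  | 1 => kap w.2
  | 2 => fun x => kap w.1 x + kap w.2 0
  | 3 => fun x => kap w.1 x - kap w.2 0

/-- `1 + sgn` -/
def e2 (w : S4 × S4) : ℤ := if od w.1 then 0 else 2

def del (j : Fin 4) (w : S4 × S4) : ℤ := fix3 (act3 j w) - 1 - e2 w

def ff (j : Fin 2) (w : S4 × S4) : ℤ :=
  match j with
  | 0 => (fix w.2 - 1) * del 0 w
  | 1 => (fix w.1 - 1) * del 1 w

def hh (w : S4 × S4) : ℤ := fix w.1 * fix w.2 * e2 w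

/-- the subgroup -/
def inW (w : S4 × S4) : Bool := od w.1 == od w.2

def W : Finset (S4 × S4) := Finset.univ.filter (fun w => inW w = true)

/-- the 3-singular elements -/
def Dw (w : S4 × S4) : Bool := (!od w.1) && (!od w.2) && !((kap w.1 0 == 0) && (kap w.2 0 == 0))

/-- pairs of transpositions -/
def TT (w : S4 × S4) : Bool := od w.1 && od w.2 && (fix w.1 == 2) && (fix w.2 == 2)

/-- `V₄ × V₄` -/
def VV (w : S4 × S4) : Bool := (!od w.1) && (!od w.2) && (kap w.1 0 == 0) && (kap w.2 0 == 0)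

theorem mem_W {w : S4 × S4} : w ∈ W ↔ od w.1 = od w.2 := by
  simp [W, inW]

theorem card_W : W.card = 288 := by decide +kernel

theorem sum_del : ∀ j k : Fin 4, (∑ w ∈ W, del j w * del k w) = if j = k then 864 else 576 := by decide +kernel

theorem sum_del_one : ∀ j : Fin 4, (∑ w ∈ W, del j w) = -288 := by decide +kernel

theorem sum_ff : ∀ j : Fin 2, (∑ w ∈ W, ff j w * ff j w) = 864 := by decide +kernel

theorem sum_ff_one : ∀ j : Fin 2, (∑ w ∈ W, ff j w) = 0 := by decide +kernel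

theorem sum_ff_del : ∀ i : Fin 2, ∀ j : Fin 4, (∑ w ∈ W, ff i w * del j w) = 0 := by decide +kernel

theorem hh_eq' : ∀ a b : S4, od a = od b → 9 * hh (a, b) = (if (a, b) = (1 : S4 × S4) then 288 else 0) -
    2 * (del 0 (a, b) + del 1 (a, b) + del 2 (a, b) + del 3 (a, b)) - 6 * (ff 0 (a, b) + ff 1 (a, b)) := by
  decide +kernel

theorem hh_eq {w : S4 × S4} (h : od w.1 = od w.2) : 9 * hh w = (if w = 1 then 288 else 0) -
    2 * (del 0 w + del 1 w + del 2 w + del 3 w) - 6 * (ff 0 w + ff 1 w) := hh_eq' w.1 w.2 h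

theorem supp_del' : ∀ a b : S4, od a = od b → ∀ j : Fin 4, del j (a, b) ≠ 0 → Dw (a, b) = true := by
  decide +kernel

theorem supp_del {w : S4 × S4} (h : od w.1 = od w.2) {j : Fin 4} (hj : del j w ≠ 0) : Dw w = true :=
  supp_del' w.1 w.2 h j hj

theorem supp_ff' : ∀ a b : S4, od a = od b → ∀ j : Fin 2, ff j (a, b) ≠ 0 → Dw (a, b) = true := by
  decide +kernel

theorem supp_ff {w : S4 × S4} (h : od w.1 = od w.2) {j : Fin 2} (hj : ff j w ≠ 0) : Dw w = true :=
  supp_ff' w.1 w.2 h j hj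

theorem Dw_inv' : ∀ a b : S4, od a = od b → Dw (a, b) = true → Dw (a⁻¹, b⁻¹) = true := by decide +kernel

theorem Dw_inv {w : S4 × S4} (h : od w.1 = od w.2) (hw : Dw w = true) : Dw w⁻¹ = true :=
  Dw_inv' w.1 w.2 h hw

theorem sq_one' : ∀ a b : S4, od a = od b → a * a = 1 → b * b = 1 → TT (a, b) = true ∨ VV (a, b) = true := by
  decide +kernel

theorem sq_one {w : S4 × S4} (h : od w.1 = od w.2) (hw : w * w = 1) : TT w = true ∨ VV w = true :=
  sq_one' w.1 w.2 h (congrArg Prod.fst hw) (congrArg Prod.snd hw)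

theorem del_odd' : ∀ a b : S4, od a = od b → od a = true → del 0 (a, b) = 0 := by decide +kernel

theorem del_odd {w : S4 × S4} (h : od w.1 = od w.2) (hw : od w.1 = true) : del 0 w = 0 :=
  del_odd' w.1 w.2 h hw

theorem del_VV' : ∀ a : S4, od a = false → kap a 0 = 0 → fix3 (kap a) = 3 := by decide +kernel

theorem del_VV {w : S4 × S4} (h : od w.1 = false) (hw : kap w.1 0 = 0) : del 0 w = 0 := by
  show fix3 (kap w.1) - 1 - e2 w = 0
  rw [del_VV' _ h hw, e2, h]
  rfl

def TTs : Finset (S4 × S4) := W.filter (fun w => TT w = true)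

theorem card_TTs : TTs.card = 36 := by decide +kernel

theorem sum_TT : (∑ w ∈ TTs, ∑ w' ∈ TTs, del 0 (w * w')) = -2592 := by decide +kernel

theorem T_conj : ∀ a : S4, od a = true → fix a = 2 → ∃ u : S4, od u = false ∧ u * Equiv.swap 1 2 * u⁻¹ = a := by
  decide +kernel

end Cfsg.Agent.LargeExtra.W2.CharKill
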