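import Cfsg.Agent.LargeExtra.W2.ThreeG.Dec
import Cfsg.Agent.LargeExtra.W2.CharKill.Model

/-!
# The map of the decidable model of `C_G(z)` onto the group of order 288 (helper860)
-/

set_option autoImplicit false
set_option maxRecDepth 100000

namespace Cfsg.Agent.LargeExtra.W2.CharKill

open Cfsg.Agent.LargeExtra.W2.ThreeG.Model
open Cfsg.Agent.SmallExtra438.Model (qm qm_lt)

def pA : S4 := Equiv.swap 0 1 * Equiv.swap 2 3
def pB : S4 := Equiv.swap 0 2 * Equiv.swap 1 3
def pX : S4 := Equiv.swap 1 2 * Equiv.swap 2 3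
def pY : S4 := Equiv.swap 1 2

/-- the image of the element of `Q` with code `x` -/
def qphi (x : ℕ) : S4 × S4 :=
  ((if x.testBit 0 then pA else 1) * (if x.testBit 1 then pB else 1),
    (if x.testBit 2 then pA else 1) * (if x.testBit 3 then pB else 1))

/-- the image of `x₁ ^ a x₂ ^ b y ^ e` -/
def kphi (n : ℕ) : S4 × S4 :=
  ((if n % 3 = 0 then 1 else if n % 3 = 1 then pX else pX * pX) * (if n < 9 then 1 else pY),
    (if n / 3 % 3 = 0 then 1 else if n / 3 % 3 = 1 then pX else pX * pX) * (if n < 9 then 1 else pY))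

/-- the image of the element with code `m` -/
def phi (m : ℕ) : S4 × S4 := qphi (m % 32) * kphi (m / 32)

theorem qphi_mul : ∀ x < 32, ∀ y < 32, qphi (qm x y) = qphi x * qphi y := by decide +kernel

theorem kphi_mul : ∀ x < 18, ∀ y < 18, kphi (km x y) = kphi x * kphi y := by decide +kernel

theorem kphi_act : ∀ n < 18, ∀ x < 32, kphi n * qphi x = qphi (act n x) * kphi n := by decide +kernel

theorem phi_mul {m n : ℕ} (hm : m < 576) (hn : n < 576) : phi (mm m n) = phi m * phi n := by
  have h1 : act (m / 32) (n % 32) < 32 := act_lt _ (by omega) _ (by omega)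
  have h2 : qm (m % 32) (act (m / 32) (n % 32)) < 32 := qm_lt _ (by omega) _ h1
  have h7 : mm m n % 32 = qm (m % 32) (act (m / 32) (n % 32)) := by
    unfold mm; omega
  have h8 : mm m n / 32 = km (m / 32) (n / 32) := by
    unfold mm; omega
  unfold phi
  rw [h7, h8, qphi_mul _ (by omega) _ h1, kphi_mul _ (by omega) _ (by omega)]
  have h9 := kphi_act (m / 32) (by omega) (n % 32) (by omega)
  calc qphi (m % 32) * qphi (act (m / 32) (n % 32)) * (kphi (m / 32) * kphi (n / 32))
      = qphi (m % 32) * (qphi (act (m / 32) (n % 32)) * kphi (m / 32)) * kphi (n / 32) := by group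
    _ = _ := by rw [← h9]; group

theorem phi_sgn : ∀ m < 576, od (phi m).1 = od (phi m).2 := by decide +kernel

theorem phi_16 : phi 16 = 1 := by decide +kernel

theorem phi_0 : phi 0 = 1 := by decide +kernel

theorem phi_inv : ∀ m < 576, TT (phi m) = true → mm m m = 0 := by decide +kernel

theorem phi_sqV : ∀ m < 576, VV (phi m) = true → (mm m m = 0 ↔ ((phi m).1 = 1 ↔ (phi m).2 = 1)) := by
  decide +kernel

/-- codes of the permutations -/
def gt (n r : ℕ) : S4 := ((if n % 2 = 0 then 1 else pA) * (if n < 2 then 1 else pB)) *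
    ((if r % 3 = 0 then 1 else if r % 3 = 1 then pX else pX * pX) * (if r < 3 then 1 else pY))

theorem surj_one : ∀ a : S4, ∃ n < 4, ∃ r < 6, a = gt n r := by decide +kernel

theorem od_code : ∀ n < 4, ∀ r < 6, od (gt n r) = decide (3 ≤ r) := by
  decide +kernel

set_option synthInstance.maxSize 2000 in
theorem code_eq0 : ∀ n < 4, ∀ n' < 4, ∀ r < 3, ∀ r' < 3,
    phi (n + 4 * n' + 32 * (r + 3 * r')) = (gt n r, gt n' r') := by decide +kernel

set_option synthInstance.maxSize 2000 in
theorem code_eq1 : ∀ n < 4, ∀ n' < 4, ∀ r < 3, ∀ r' < 3,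
    phi (n + 4 * n' + 32 * (r + 3 * r' + 9)) = (gt n (r + 3), gt n' (r' + 3)) := by decide +kernel

theorem phi_surj {w : S4 × S4} (hw : od w.1 = od w.2) : ∃ m < 576, phi m = w := by
  obtain ⟨a, b⟩ := w
  obtain ⟨n, hn, r, hr, ha⟩ := surj_one a
  obtain ⟨n', hn', r', hr', hb⟩ := surj_one b
  have h1 : od a = decide (3 ≤ r) := by rw [ha]; exact od_code n hn r hr
  have h2 : od b = decide (3 ≤ r') := by rw [hb]; exact od_code n' hn' r' hr'
  simp only at hw
  rw [h1, h2, decide_eq_decide] at hw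
  by_cases h3 : 3 ≤ r
  · have h4 : 3 ≤ r' := hw.1 h3
    refine ⟨n + 4 * n' + 32 * ((r - 3) + 3 * (r' - 3) + 9), by omega, ?_⟩
    rw [code_eq1 n hn n' hn' (r - 3) (by omega) (r' - 3) (by omega),
      show r - 3 + 3 = r by omega, show r' - 3 + 3 = r' by omega, ← ha, ← hb]
  · have h4 : ¬ 3 ≤ r' := fun h5 => h3 (hw.2 h5)
    refine ⟨n + 4 * n' + 32 * (r + 3 * r'), by omega, ?_⟩
    rw [code_eq0 n hn n' hn' r (by omega) r' (by omega), ← ha, ← hb]

end Cfsg.Agent.LargeExtra.W2.CharKill
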