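import Mathlib
import Cfsg.Agent.Characters.ExceptionalIsometry

/-!
# Four vectors of norm three with inner products two (helper860)
-/

set_option autoImplicit false

namespace Cfsg.Agent.LargeExtra.W2.CharKill

open Finset

/-- An integer vector of squared norm two with value one at a positive vector is the difference of two
distinct unit vectors. -/
theorem exists_single_sub_single {I : Type*} [Fintype I] [DecidableEq I] (a d : I → ℤ)
    (hd : ∀ i, 0 < d i) (h2 : ∑ i, a i * a i = 2) (h0 : ∑ i, a i * d i = 1) :
    ∃ x y : I, x ≠ y ∧ a = Pi.single x 1 - Pi.single y 1 := by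
  have hle : ∀ i, a i * a i ≤ 2 := fun i => by
    rw [← h2]
    exact Finset.single_le_sum (f := fun i => a i * a i) (fun j _ => mul_self_nonneg _) (mem_univ i)
  have hval : ∀ i, a i = -1 ∨ a i = 0 ∨ a i = 1 := fun i => by
    have h := hle i
    have h1 : a i ≤ 1 := by nlinarith
    have h1' : -1 ≤ a i := by nlinarith
    omega
  have hpos : ∃ i, a i = 1 := by
    by_contra hcon
    push Not at hcon
    have hnp : ∀ i, a i ≤ 0 := fun i => by
      rcases hval i with h | h | h
      · omega
      · omega
      · exact absurd h (hcon i)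
    have hlt : ∑ i, a i * d i ≤ 0 :=
      Finset.sum_nonpos (fun j _ => mul_nonpos_of_nonpos_of_nonneg (hnp j) (hd j).le)
    omega
  have hneg : ∃ i, a i = -1 := by
    by_contra hcon
    push Not at hcon
    have hlt : ∑ i, a i * a i ≤ ∑ i, a i * d i := by
      refine Finset.sum_le_sum fun i _ => ?_
      rcases hval i with h | h | h
      · exact absurd h (hcon i)
      · rw [h]; simp
      · rw [h]; have := hd i; omega
    omega
  obtain ⟨x, hx⟩ := hpos
  obtain ⟨y, hy⟩ := hneg
  have hxy : x ≠ y := by
    rintro rfl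
    omega
  refine ⟨x, y, hxy, ?_⟩
  funext z
  by_cases hzx : z = x
  · subst hzx
    simp [hx, hxy]
  by_cases hzy : z = y
  · subst hzy
    simp [hy, hzx]
  simp only [Pi.sub_apply, Pi.single_apply, hzx, hzy, if_false, sub_zero]
  have h3 : ∑ i ∈ ({x, y, z} : Finset I), a i * a i ≤ ∑ i, a i * a i :=
    Finset.sum_le_sum_of_subset_of_nonneg (subset_univ _) (fun j _ _ => mul_self_nonneg _)
  rw [h2, Finset.sum_insert (by simp [hxy, Ne.symm hzx]), Finset.sum_insert (by simpa using Ne.symm hzy),
    Finset.sum_singleton, hx, hy] at h3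
  have : a z * a z ≤ 0 := by linarith
  nlinarith [mul_self_nonneg (a z)]

/-- The configuration -/
structure Star {I : Type*} [DecidableEq I] (m : Fin 4 → I → ℤ) (e θ : I) (χ : Fin 4 → I) (ε : ℤ) : Prop where
  sq : ε * ε = 1
  inj : ∀ j k, j ≠ k → χ j ≠ χ k
  ne : ∀ j, χ j ≠ θ
  θe : θ ≠ e
  χe : ∀ j, χ j ≠ e
  eq : ∀ j, m j = ε • Pi.single (χ j) 1 - Pi.single e 1 - ε • Pi.single θ 1

theorem exists_star {I : Type*} [Fintype I] [DecidableEq I] (m : Fin 4 → I → ℤ) (d : I → ℤ) (e : I)
    (hd : ∀ i, 0 < d i) (hde : d e = 1) (hnorm : ∀ j, ∑ i, m j i * m j i = 3)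
    (hgram : ∀ j k, j ≠ k → ∑ i, m j i * m k i = 2) (he : ∀ j, m j e = -1)
    (h0 : ∀ j, ∑ i, m j i * d i = 0) : ∃ θ χ ε, Star m e θ χ ε := by
  have key : ∀ (f g : I → ℤ), f e = -1 → g e = -1 →
      ∑ i, (f i + (Pi.single e 1 : I → ℤ) i) * (g i + (Pi.single e 1 : I → ℤ) i) = ∑ i, f i * g i - 1 := by
    intro f g hf hg
    have h1 : ∀ i, (f i + (Pi.single e 1 : I → ℤ) i) * (g i + (Pi.single e 1 : I → ℤ) i) =
        f i * g i + (Pi.single e (f e + g e + 1) : I → ℤ) i := by
      intro i
      by_cases hi : i = e
      · subst hi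
        simp only [Pi.single_eq_same]
        ring
      · simp only [Pi.single_apply, hi, if_false]
        ring
    rw [Finset.sum_congr rfl (fun i _ => h1 i), Finset.sum_add_distrib, Finset.sum_pi_single', if_pos (mem_univ _),
      hf, hg]
    ring
  have key0 : ∀ (f : I → ℤ), ∑ i, (f i + (Pi.single e 1 : I → ℤ) i) * d i = ∑ i, f i * d i + 1 := by
    intro f
    have h1 : ∀ i, (f i + (Pi.single e 1 : I → ℤ) i) * d i = f i * d i + (Pi.single e (d e) : I → ℤ) i := by
      intro i
      by_cases hi : i = e
      · subst hi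
        simp only [Pi.single_eq_same]
        ring
      · simp only [Pi.single_apply, hi, if_false]
        ring
    rw [Finset.sum_congr rfl (fun i _ => h1 i), Finset.sum_add_distrib, Finset.sum_pi_single', if_pos (mem_univ _),
      hde]
  have hex : ∀ j, ∃ x y : I, x ≠ y ∧ (fun i => m j i + (Pi.single e 1 : I → ℤ) i) =
      Pi.single x 1 - Pi.single y 1 := by
    intro j
    apply exists_single_sub_single _ d hd
    · rw [key _ _ (he j) (he j), hnorm j]; norm_num
    · rw [key0, h0 j]; norm_num
  choose x y hxy hm using hex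
  have hval : ∀ j i, m j i + (Pi.single e 1 : I → ℤ) i = (Pi.single (x j) 1 : I → ℤ) i - (Pi.single (y j) 1 : I → ℤ) i :=
    fun j i => congrFun (hm j) i
  have hxe : ∀ j, x j ≠ e := by
    intro j h
    have := hval j e
    rw [he j, h] at this
    simp only [Pi.single_eq_same, Pi.single_apply] at this
    split_ifs at this with h1
    · exact hxy j (h.trans h1)
    · omega
  have hye : ∀ j, y j ≠ e := by
    intro j h
    have := hval j e
    rw [he j, h] at this
    simp only [Pi.single_eq_same, Pi.single_apply] at this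
    split_ifs at this with h1
    · exact hxe j h1.symm
    · omega
  have hgr : ∀ j k, j ≠ k →
      ((if x j = x k then 1 else 0) - (if x j = y k then 1 else 0) - (if y j = x k then 1 else 0)
        + (if y j = y k then 1 else 0) : ℤ) = 1 := by
    intro j k hjk
    have h1 := key _ _ (he j) (he k)
    rw [hgram j k hjk] at h1
    simp only [hval] at h1
    have h2 : ∀ i, ((Pi.single (x j) 1 : I → ℤ) i - (Pi.single (y j) 1 : I → ℤ) i) *
        ((Pi.single (x k) 1 : I → ℤ) i - (Pi.single (y k) 1 : I → ℤ) i) =
        (Pi.single (x j) (if x j = x k then 1 else 0) : I → ℤ) i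
          - (Pi.single (x j) (if x j = y k then 1 else 0) : I → ℤ) i
          - (Pi.single (y j) (if y j = x k then 1 else 0) : I → ℤ) i
          + (Pi.single (y j) (if y j = y k then 1 else 0) : I → ℤ) i := by
      intro i
      simp only [Pi.single_apply]
      by_cases h1 : i = x j
      · subst h1
        by_cases h2 : x j = y j
        · exact absurd h2 (hxy j)
        · simp only [h2, if_false, if_true]
          ring
      · by_cases h2 : i = y j
        · subst h2
          simp only [h1, if_false, if_true]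
          ring
        · simp only [h1, h2, if_false]
          ring
    rw [Finset.sum_congr rfl (fun i _ => h2 i), Finset.sum_add_distrib, Finset.sum_sub_distrib,
      Finset.sum_sub_distrib] at h1
    simp only [Finset.sum_pi_single', mem_univ, if_true] at h1
    rw [h1]
    norm_num
  have hmj : ∀ j, m j = Pi.single (x j) 1 - Pi.single (y j) 1 - Pi.single e 1 := by
    intro j
    rw [← hm j]
    funext i
    simp
  rcases Cfsg.Agent.Characters.ExceptionalIsometry.all_left_or_all_right x y hxy hgr with h | h
  · refine ⟨x 0, y, -1, ⟨by norm_num, fun j k hjk => (h j k hjk).2, ?_, hxe 0, hye, ?_⟩⟩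
    · intro j e1
      by_cases hj : j = 0
      · subst hj
        exact hxy 0 e1.symm
      · have := (h j 0 hj).1
        exact hxy j (this.trans e1.symm)
    · intro j
      have hx0 : x j = x 0 := by
        by_cases hj : j = 0
        · rw [hj]
        · exact (h j 0 hj).1
      rw [hmj j, hx0]
      simp only [neg_smul, one_smul]
      ring
  · refine ⟨y 0, x, 1, ⟨by norm_num, fun j k hjk => (h j k hjk).1, ?_, hye 0, hxe, ?_⟩⟩
    · intro j e1
      by_cases hj : j = 0
      · subst hj
        exact hxy 0 e1
      · have := (h j 0 hj).2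
        exact hxy j (e1.trans this.symm)
    · intro j
      have hy0 : y j = y 0 := by
        by_cases hj : j = 0
        · rw [hj]
        · exact (h j 0 hj).2
      rw [hmj j, hy0]
      simp only [one_smul]
      ring

/-- A vector of norm three orthogonal to the configuration and to `e` is orthogonal to `θ`. -/
theorem Star.eq_zero {I : Type*} [Fintype I] [DecidableEq I] {m : Fin 4 → I → ℤ} {e θ : I} {χ : Fin 4 → I}
    {ε : ℤ} (h : Star m e θ χ ε) (n : I → ℤ) (hn : ∑ i, n i * n i = 3) (he : n e = 0)
    (h0 : ∀ j, ∑ i, n i * m j i = 0) : n θ = 0 := by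
  have hε := h.sq
  have h1 : ∀ j, n (χ j) = n θ := by
    intro j
    have h2 := h0 j
    rw [h.eq j] at h2
    have h3 : ∀ i, n i * (ε • Pi.single (χ j) 1 - Pi.single e 1 - ε • Pi.single θ 1 : I → ℤ) i =
        ε * (Pi.single (χ j) (n (χ j)) : I → ℤ) i - (Pi.single e (n e) : I → ℤ) i
          - ε * (Pi.single θ (n θ) : I → ℤ) i := by
      intro i
      simp only [Pi.sub_apply, Pi.smul_apply, smul_eq_mul]
      have h4 : ∀ a : I, n i * (Pi.single a 1 : I → ℤ) i = (Pi.single a (n a) : I → ℤ) i := by
        intro a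
        by_cases hi : i = a
        · subst hi; simp
        · simp [Pi.single_apply, hi]
      rw [mul_sub, mul_sub, mul_left_comm, h4, h4, mul_left_comm, h4]
    rw [Finset.sum_congr rfl (fun i _ => h3 i), Finset.sum_sub_distrib, Finset.sum_sub_distrib,
      ← Finset.mul_sum, ← Finset.mul_sum] at h2
    simp only [Finset.sum_pi_single', mem_univ, if_true, he, sub_zero] at h2
    have h5 : ε * (ε * n (χ j) - ε * n θ) = 0 := by rw [h2, mul_zero]
    have h6 : ε * (ε * n (χ j) - ε * n θ) = (ε * ε) * (n (χ j) - n θ) := by ring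
    rw [h6, hε, one_mul] at h5
    omega
  have h2 : ∑ i ∈ ({θ, χ 0, χ 1, χ 2, χ 3} : Finset I), n i * n i ≤ ∑ i, n i * n i :=
    Finset.sum_le_sum_of_subset_of_nonneg (subset_univ _) (fun j _ _ => mul_self_nonneg _)
  rw [hn, Finset.sum_insert (by simp [(h.ne 0).symm, (h.ne 1).symm, (h.ne 2).symm, (h.ne 3).symm]),
    Finset.sum_insert (by
      simp [h.inj 0 1 (by decide), h.inj 0 2 (by decide), h.inj 0 3 (by decide)]),
    Finset.sum_insert (by simp [h.inj 1 2 (by decide), h.inj 1 3 (by decide)]),
    Finset.sum_insert (by simp [h.inj 2 3 (by decide)]), Finset.sum_singleton, h1 0, h1 1, h1 2, h1 3] at h2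
  have h3 : n θ * n θ ≤ 0 := by omega
  nlinarith [mul_self_nonneg (n θ)]

end Cfsg.Agent.LargeExtra.W2.CharKill
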