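import Cfsg.Agent.LargeExtra.W2.CharKill.Setup

/-!
# The character argument: the two integers `A`, `B` (helper860)
-/

set_option autoImplicit false
open Cfsg

namespace Cfsg.Agent.LargeExtra.W2.CharKill

open Cfsg.Agent.Characters.Core Cfsg.Agent.CharactersDeep.IndFun
open scoped ComplexConjugate

universe u

theorem TT_not_Dw {w : S4 × S4} (h : TT w = true) : Dw w ≠ true := by
  unfold TT at h
  unfold Dw
  simp only [Bool.and_eq_true] at h
  rw [h.1.1.1]
  simp

theorem VV_not_Dw {w : S4 × S4} (h : VV w = true) : Dw w ≠ true := by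
  unfold VV at h
  unfold Dw
  simp only [Bool.and_eq_true] at h
  rw [h.1.2, h.2]
  simp

theorem VV_not_TT {w : S4 × S4} (h : VV w = true) : TT w ≠ true := by
  unfold VV at h
  unfold TT
  simp only [Bool.and_eq_true, Bool.not_eq_true'] at h
  rw [h.1.1.1]
  simp

theorem VV_iff {w : S4 × S4} (h : VV w = true) : od w.1 = false ∧ kap w.1 0 = 0 := by
  unfold VV at h
  simp only [Bool.and_eq_true, Bool.not_eq_true', beq_iff_eq] at h
  exact ⟨h.1.1.1, h.1.2⟩

theorem TT_odd {w : S4 × S4} (h : TT w = true) : od w.1 = true := by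
  unfold TT at h
  simp only [Bool.and_eq_true] at h
  exact h.1.1.1

/-- coefficients of generalised characters -/
theorem classInner_coeff {G : Type u} [Group G] [Fintype G] [Fintype (IrrCharacter G)] {f g : G → ℂ}
    {m n : IrrCharacter G → ℤ} (hf : f = ∑ ψ : IrrCharacter G, m ψ • (ψ : G → ℂ))
    (hg : g = ∑ ψ : IrrCharacter G, n ψ • (ψ : G → ℂ)) :
    classInner f g = ((∑ ψ, m ψ * n ψ : ℤ) : ℂ) := by
  have h := classInner_sum_smul_sum_smul (fun ψ : IrrCharacter G => (m ψ : ℂ)) (fun ψ => (n ψ : ℂ))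
  simp only [Int.cast_smul_eq_zsmul] at h
  rw [hf, hg, h]
  push_cast
  refine Finset.sum_congr rfl fun ψ _ => ?_
  rw [Complex.conj_eq_iff_im.2 (by simp)]

theorem Star.sum {I : Type*} [Fintype I] [DecidableEq I] {m : Fin 4 → I → ℤ} {e θ : I} {χ : Fin 4 → I}
    {ε : ℤ} (h : Star m e θ χ ε) {R : Type*} [CommRing R] (g : I → R) (j : Fin 4) :
    ∑ i, (m j i : R) * g i = ε * g (χ j) - g e - ε * g θ := by
  have h1 : ∀ i, (m j i : R) * g i = (Pi.single (χ j) (ε * g (χ j)) : I → R) i - (Pi.single e (g e) : I → R) i -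
      (Pi.single θ (ε * g θ) : I → R) i := by
    intro i
    rw [h.eq j]
    simp only [Pi.sub_apply, Pi.smul_apply, smul_eq_mul, Pi.single_apply]
    by_cases h1 : i = χ j
    · subst h1
      simp only [if_true, h.ne j, h.χe j, if_false]
      push_cast
      ring
    · by_cases h2 : i = e
      · subst h2
        simp only [h1, if_true, if_false, Ne.symm h.θe]
        push_cast
        ring
      · by_cases h3 : i = θ
        · subst h3
          simp only [h1, h2, if_true, if_false]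
          push_cast
          ring
        · simp only [h1, h2, h3, if_false]
          push_cast
          ring
  rw [Finset.sum_congr rfl (fun i _ => h1 i), Finset.sum_sub_distrib, Finset.sum_sub_distrib]
  simp only [Finset.sum_pi_single', Finset.mem_univ, if_true]

theorem Star.apply_θ {I : Type*} [DecidableEq I] {m : Fin 4 → I → ℤ} {e θ : I} {χ : Fin 4 → I}
    {ε : ℤ} (h : Star m e θ χ ε) (j : Fin 4) : m j θ = -ε := by
  rw [h.eq j]
  simp [Pi.single_apply, Ne.symm (h.ne j), h.θe]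

namespace Setup

variable {G : Type u} [Group G] {z : G} {C : Subgroup G} {Φ : C →* S4 × S4}

theorem ind_eq_zero [Fintype G] (h : Setup z C Φ) {f : C → ℂ} (hf : ∀ c, f c ≠ 0 → Dw (Φ c) = true) {t : G}
    (ht : t * t = 1) : indFun C f t = 0 := by
  apply indFun_apply_eq_zero
  intro x c hc
  by_contra hne
  have h1 := hf c hne
  have h2 : c * c = 1 := by
    apply Subtype.ext
    rw [Subgroup.coe_mul, ← hc, Subgroup.coe_one]
    calc x * t * x⁻¹ * (x * t * x⁻¹) = x * (t * t) * x⁻¹ := by group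
      _ = 1 := by rw [ht]; group
  have h3 : Φ c * Φ c = 1 := by rw [← map_mul, h2, map_one]
  rcases sq_one (h.sgn c) h3 with h4 | h4
  · exact TT_not_Dw h4 h1
  · exact VV_not_Dw h4 h1

open scoped Classical in
/-- the sum over pairs of involutions -/
theorem sum_invol [Fintype C] (h : Setup z C Φ) :
    (∑ x : C, ∑ y : C, if orderOf x = 2 ∧ orderOf y = 2 then dl Φ 0 (x * y) else 0) = -10368 := by
  have key : ∀ x y : C, (if orderOf x = 2 ∧ orderOf y = 2 then dl Φ 0 (x * y) else 0) =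
      if Φ x ∈ TTs ∧ Φ y ∈ TTs then ((del 0 (Φ x * Φ y) : ℤ) : ℂ) else 0 := by
    intro x y
    have hsq : ∀ x : C, orderOf x = 2 → TT (Φ x) = true ∨ VV (Φ x) = true := by
      intro x hx
      apply sq_one (h.sgn x)
      rw [← map_mul, ← pow_two, ← hx, pow_orderOf_eq_one, map_one]
    have hTT : ∀ x : C, TT (Φ x) = true → orderOf x = 2 := by
      intro x hx
      apply orderOf_eq_prime
      · rw [pow_two]; exact h.inv x hx
      · rintro rfl
        rw [map_one] at hx
        revert hx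
        decide
    have hmem : ∀ x : C, Φ x ∈ TTs ↔ TT (Φ x) = true := by
      intro x
      rw [TTs, Finset.mem_filter, mem_W]
      exact ⟨fun h1 => h1.2, fun h1 => ⟨h.sgn x, h1⟩⟩
    by_cases hxy : orderOf x = 2 ∧ orderOf y = 2
    · rw [if_pos hxy]
      have hodd : ∀ w w' : S4 × S4, (w * w').1 = w.1 * w'.1 := fun _ _ => rfl
      have hdl : dl Φ 0 (x * y) = ((del 0 (Φ x * Φ y) : ℤ) : ℂ) := by rw [dl, map_mul]
      have hsg : od (Φ x * Φ y).1 = od (Φ x * Φ y).2 := by rw [← map_mul]; exact h.sgn _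
      rcases hsq x hxy.1 with h1 | h1 <;> rcases hsq y hxy.2 with h2 | h2
      · rw [if_pos ⟨(hmem x).2 h1, (hmem y).2 h2⟩, hdl]
      · rw [if_neg (fun h3 => VV_not_TT h2 ((hmem y).1 h3.2)), hdl, del_odd hsg, Int.cast_zero]
        rw [hodd, od_mul, TT_odd h1, (VV_iff h2).1]
        rfl
      · rw [if_neg (fun h3 => VV_not_TT h1 ((hmem x).1 h3.1)), hdl, del_odd hsg, Int.cast_zero]
        rw [hodd, od_mul, TT_odd h2, (VV_iff h1).1]
        rfl
      · rw [if_neg (fun h3 => VV_not_TT h1 ((hmem x).1 h3.1)), hdl, del_VV, Int.cast_zero]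
        · rw [hodd, od_mul, (VV_iff h2).1, (VV_iff h1).1]
          rfl
        · rw [hodd, kap_mul, (VV_iff h2).2, (VV_iff h1).2]
    · rw [if_neg hxy, if_neg]
      intro h1
      exact hxy ⟨hTT x ((hmem x).1 h1.1), hTT y ((hmem y).1 h1.2)⟩
  rw [Finset.sum_congr rfl (fun x _ => Finset.sum_congr rfl (fun y _ => key x y))]
  have h1 : ∀ x : C, (∑ y : C, if Φ x ∈ TTs ∧ Φ y ∈ TTs then ((del 0 (Φ x * Φ y) : ℤ) : ℂ) else 0) =
      2 * ∑ w' ∈ W, if Φ x ∈ TTs ∧ w' ∈ TTs then ((del 0 (Φ x * w') : ℤ) : ℂ) else 0 := fun x =>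
    h.sum_comp (fun w' => if Φ x ∈ TTs ∧ w' ∈ TTs then ((del 0 (Φ x * w') : ℤ) : ℂ) else 0)
  rw [Finset.sum_congr rfl (fun x _ => h1 x),
    h.sum_comp (fun w => 2 * ∑ w' ∈ W, if w ∈ TTs ∧ w' ∈ TTs then ((del 0 (w * w') : ℤ) : ℂ) else 0)]
  have h2 : (∑ w ∈ W, 2 * ∑ w' ∈ W, if w ∈ TTs ∧ w' ∈ TTs then ((del 0 (w * w') : ℤ) : ℂ) else 0) =
      2 * ((∑ w ∈ TTs, ∑ w' ∈ TTs, del 0 (w * w') : ℤ) : ℂ) := by
    rw [← Finset.mul_sum]
    congr 1
    push_cast
    have hsub : TTs ⊆ W := Finset.filter_subset _ _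
    have h3 : ∀ F : S4 × S4 → ℂ, (∑ w ∈ W, if w ∈ TTs then F w else 0) = ∑ w ∈ TTs, F w := by
      intro F
      rw [← Finset.sum_filter]
      refine Finset.sum_congr ?_ (fun _ _ => rfl)
      ext w
      rw [Finset.mem_filter]
      exact ⟨fun h => h.2, fun h => ⟨hsub h, h⟩⟩
    rw [← h3]
    refine Finset.sum_congr rfl fun w _ => ?_
    by_cases hw : w ∈ TTs
    · rw [if_pos hw, ← h3]
      refine Finset.sum_congr rfl fun w' _ => ?_
      by_cases hw' : w' ∈ TTs
      · rw [if_pos ⟨hw, hw'⟩, if_pos hw']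
      · rw [if_neg (fun h4 => hw' h4.2), if_neg hw']
    · rw [if_neg hw]
      exact Finset.sum_eq_zero fun w' _ => if_neg (fun h4 => hw h4.1)
  rw [h2, sum_TT]
  norm_num

end Setup

end Cfsg.Agent.LargeExtra.W2.CharKill
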