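import Cfsg.Agent.LargeExtra.W2.CharKill.Data

/-!
# The character argument: the two integers `A`, `B` (helper860)
-/

set_option autoImplicit false
open Cfsg

namespace Cfsg.Agent.LargeExtra.W2.CharKill

open Cfsg.Agent.Characters.Core Cfsg.Agent.CharactersDeep.IndFun
open scoped ComplexConjugate

universe u

namespace Setup

variable {G : Type u} [Group G] {z : G} {C : Subgroup G} {Φ : C →* S4 × S4}

theorem apply_one_dvd {G : Type u} [Group G] [Finite G] (χ : IrrCharacter G) (d : ℕ) (hd : (χ : G → ℂ) 1 = d) :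
    d ∣ Nat.card G := by
  obtain ⟨n, ρ, hρ, h⟩ := χ.2
  have h1 : ρ.character 1 = (Module.finrank ℂ (Fin n → ℂ) : ℂ) := Representation.char_one ρ
  rw [h, hd] at h1
  have h2 : Module.finrank ℂ (Fin n → ℂ) = d := by exact_mod_cast h1.symm
  rw [← h2]
  exact Cfsg.Agent.S0135.result ρ

/-- **The two integers.** -/
theorem exists_numbers [Finite G] (h : Setup z C Φ) : ∃ A B : ℤ, A ≠ 0 ∧ A + 1 ≠ 0 ∧
    (Nat.card G : ℤ) * (A - B) ^ 2 = 5971968 * (A * (A + 1)) ∧ 1 + B ^ 2 + 4 * (1 + B) ^ 2 ≤ 576 ∧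
    A ∣ (Nat.card G : ℤ) ∧ A + 1 ∣ (Nat.card G : ℤ) ∧ ∃ k : ℤ, A + B = 18 * k + 2 := by
  classical
  have := Fintype.ofFinite G
  have := Fintype.ofFinite C
  have hfin : Finite (IrrCharacter G) := finite_irr
  have := Fintype.ofFinite (IrrCharacter G)
  have hzz : z * z = 1 := by rw [← pow_two, ← h.ord, pow_orderOf_eq_one]
  have hz1 : z ≠ 1 := by
    intro e
    have := h.ord
    rw [e, orderOf_one] at this
    omega
  -- the trivial character, degrees and values at `z`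
  set e : IrrCharacter G := ⟨1, isIrr_one⟩ with he
  have hdeg : ∀ χ : IrrCharacter G, ∃ d : ℕ, 0 < d ∧ (χ : G → ℂ) 1 = d := fun χ => isIrr_apply_one χ.2
  choose d hdpos hd using hdeg
  have hval : ∀ χ : IrrCharacter G, ∃ b : ℤ, (χ : G → ℂ) z = b := by
    intro χ
    obtain ⟨b, hb, -⟩ := Cfsg.Agent.CharactersDeep.FeitOddAux.exists_int_apply χ.2 h.ord
    exact ⟨b, hb⟩
  choose b hb using hval
  have hde : d e = 1 := by
    have h1 := hd e
    have h2 : (e : G → ℂ) 1 = 1 := rfl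
    rw [h2] at h1
    exact_mod_cast h1.symm
  have hbe : b e = 1 := by
    have h1 := hb e
    have h2 : (e : G → ℂ) z = 1 := rfl
    rw [h2] at h1
    exact_mod_cast h1.symm
  -- coefficients
  have hm : ∀ j, ∃ m : IrrCharacter G → ℤ, indFun C (dl Φ j) = ∑ ψ : IrrCharacter G, m ψ • (ψ : G → ℂ) := fun j =>
    isGeneralizedCharacter_iff.1 (gen_ind (h.gen_dl j))
  choose m hm using hm
  have hn : ∀ j, ∃ m : IrrCharacter G → ℤ, indFun C (fl Φ j) = ∑ ψ : IrrCharacter G, m ψ • (ψ : G → ℂ) := fun j =>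
    isGeneralizedCharacter_iff.1 (gen_ind (h.gen_fl j))
  choose n hn using hn
  have hpair : ∀ f g : S4 × S4 → ℤ, (∀ c, (f (Φ c) : ℂ) ≠ 0 → Dw (Φ c) = true) →
      IsGeneralizedCharacter C (fun c => (g (Φ c) : ℂ)) →
      (∀ c, (g (Φ c) : ℂ) ≠ 0 → Dw (Φ c) = true) → ∀ m n : IrrCharacter G → ℤ,
      indFun C (fun c => (f (Φ c) : ℂ)) = ∑ ψ : IrrCharacter G, m ψ • (ψ : G → ℂ) →
      indFun C (fun c => (g (Φ c) : ℂ)) = ∑ ψ : IrrCharacter G, n ψ • (ψ : G → ℂ) →
      288 * ∑ ψ, m ψ * n ψ = ∑ w ∈ W, f w * g w := by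
    intro f g hf hg1 hg m n hm hn
    have h1 := classInner_coeff hm hn
    rw [classInner_indFun_indFun C h.ti hf (gen_class hg1) hg, h.classInner_comp] at h1
    have h2 : ((∑ w ∈ W, f w * g w : ℤ) : ℂ) = ((288 * ∑ ψ, m ψ * n ψ : ℤ) : ℂ) := by
      rw [div_eq_iff (by norm_num)] at h1
      rw [h1]
      push_cast
      ring
    exact_mod_cast h2.symm
  have hgram : ∀ j k, ∑ ψ, m j ψ * m k ψ = if j = k then 3 else 2 := by
    intro j k
    have h1 := hpair (del j) (del k) (h.dl_supp j) (h.gen_dl k) (h.dl_supp k) _ _ (hm j) (hm k)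
    rw [sum_del] at h1
    split_ifs at h1 ⊢ <;> omega
  have hnn : ∀ i, ∑ ψ, n i ψ * n i ψ = 3 := by
    intro i
    have h1 := hpair (ff i) (ff i) (h.fl_supp i) (h.gen_fl i) (h.fl_supp i) _ _ (hn i) (hn i)
    rw [sum_ff] at h1
    omega
  have hnm : ∀ i j, ∑ ψ, n i ψ * m j ψ = 0 := by
    intro i j
    have h1 := hpair (ff i) (del j) (h.fl_supp i) (h.gen_dl j) (h.dl_supp j) _ _ (hn i) (hm j)
    rw [sum_ff_del] at h1
    omega
  have hcoef : ∀ (f : C → ℂ) (m : IrrCharacter G → ℤ), indFun C f = ∑ ψ : IrrCharacter G, m ψ • (ψ : G → ℂ) →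
      ∀ χ : IrrCharacter G, classInner f (fun c : C => (χ : G → ℂ) c) = m χ := by
    intro f m hm χ
    rw [← classInner_indFun C f _ (isIrr_isClassFunction χ.2), hm, classInner_sum_zsmul_irr]
  have hone : ∀ (f : S4 × S4 → ℤ) (m : IrrCharacter G → ℤ),
      indFun C (fun c => (f (Φ c) : ℂ)) = ∑ ψ : IrrCharacter G, m ψ • (ψ : G → ℂ) →
      288 * m e = ∑ w ∈ W, f w := by
    intro f m hm
    have h1 := hcoef _ m hm e
    have h2 : (fun c : C => (e : G → ℂ) c) = fun c : C => (((fun _ => 1 : S4 × S4 → ℤ) (Φ c) : ℤ) : ℂ) := by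
      funext c
      simp [he]
    rw [h2, h.classInner_comp f (fun _ => 1), div_eq_iff (by norm_num)] at h1
    simp only [mul_one] at h1
    have h3 : ((∑ w ∈ W, f w : ℤ) : ℂ) = ((288 * m e : ℤ) : ℂ) := by
      rw [h1]; push_cast; ring
    exact_mod_cast h3.symm
  have hme : ∀ j, m j e = -1 := by
    intro j
    have h1 := hone (del j) _ (hm j)
    rw [sum_del_one] at h1
    omega
  have hne : ∀ i, n i e = 0 := by
    intro i
    have h1 := hone (ff i) _ (hn i)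
    rw [sum_ff_one] at h1
    omega
  have hzero : ∀ (t : G), t * t = 1 → ∀ (g : IrrCharacter G → ℤ), (∀ χ : IrrCharacter G, (χ : G → ℂ) t = g χ) →
      ∀ j, ∑ ψ, m j ψ * g ψ = 0 := by
    intro t ht g hg j
    have h1 := h.ind_eq_zero (h.dl_supp j) ht
    rw [hm j, Finset.sum_apply] at h1
    have h2 : ((∑ ψ, m j ψ * g ψ : ℤ) : ℂ) = 0 := by
      rw [← h1]
      push_cast
      refine Finset.sum_congr rfl fun ψ _ => ?_
      rw [Pi.smul_apply, zsmul_eq_mul, hg]
    exact_mod_cast h2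
  have hd' : ∀ χ : IrrCharacter G, (χ : G → ℂ) 1 = ((d χ : ℤ) : ℂ) := fun χ => by rw [hd]; push_cast; rfl
  obtain ⟨θ, χ, ε, S⟩ := exists_star m (fun ψ => (d ψ : ℤ)) e (fun ψ => by exact_mod_cast hdpos ψ)
    (by show ((d e : ℕ) : ℤ) = 1; rw [hde]; rfl) (fun j => by rw [hgram, if_pos rfl])
    (fun j k hjk => by rw [hgram, if_neg hjk]) hme (hzero 1 (by group) _ hd')
  have hεε := S.sq
  have hε1 : ε = 1 ∨ ε = -1 := mul_self_eq_one_iff.1 hεε
  have hnθ : ∀ i, n i θ = 0 := fun i => S.eq_zero (n i) (hnn i) (hne i) (hnm i)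
  have hdχ : ∀ j, ε * (d (χ j) : ℤ) = 1 + ε * d θ := by
    intro j
    have h1 := S.sum (fun ψ => (d ψ : ℤ)) j
    have h2 := hzero 1 (by group) _ hd' j
    simp only [Int.cast_id] at h1
    rw [h2, hde] at h1
    push_cast at h1
    linarith
  have hbχ : ∀ j, ε * b (χ j) = 1 + ε * b θ := by
    intro j
    have h1 := S.sum (fun ψ => b ψ) j
    have h2 := hzero z hzz _ hb j
    simp only [Int.cast_id] at h1
    rw [h2, hbe] at h1
    linarith
  have hdθ := hdpos θ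
  have hdχ0 := hdpos (χ 0)
  refine ⟨ε * d θ, ε * b θ, ?_, ?_, ?_, ?_, ?_, ?_, ?_⟩
  · intro h1
    rcases hε1 with h2 | h2 <;> rw [h2] at h1 <;> omega
  · intro h1
    have h2 := hdχ 0
    rcases hε1 with h3 | h3 <;> rw [h3] at h1 h2 <;> omega
  · -- class algebra
    have h1 := class_algebra z h.ord h.cls C h.hC (dl Φ 0) (fun x y hx hy hxy hne =>
      mem_of_mul_mem C h.ti (fun c hc => by
        show Dw (Φ c⁻¹) = true
        rw [map_inv]
        exact Dw_inv (h.sgn c) hc) hx hy hxy (h.dl_supp 0 _ hne)) (m 0) (hm 0)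
    rw [h.sum_invol, h.card] at h1
    have h2 := S.sum (fun ψ : IrrCharacter G => (ψ : G → ℂ) z ^ 2 / (ψ : G → ℂ) 1) 0
    rw [h2] at h1
    simp only [hb, hd, hbe, hde] at h1
    -- rewrite in terms of `A`, `B`
    have hA0 : ((d θ : ℕ) : ℂ) ≠ 0 := by exact_mod_cast hdθ.ne'
    have hA1 : ((d (χ 0) : ℕ) : ℂ) ≠ 0 := by exact_mod_cast hdχ0.ne'
    have hεC : (ε : ℂ) * ε = 1 := by exact_mod_cast hεε
    have e1 : (ε : ℂ) * (d (χ 0) : ℂ) = 1 + ε * d θ := by exact_mod_cast hdχ 0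
    have e2 : (ε : ℂ) * (b (χ 0) : ℂ) = 1 + ε * b θ := by exact_mod_cast hbχ 0
    have e3 : (d (χ 0) : ℂ) = ε * (1 + ε * d θ) := by rw [← e1, ← mul_assoc, hεC, one_mul]
    have e4 : (b (χ 0) : ℂ) = ε * (1 + ε * b θ) := by rw [← e2, ← mul_assoc, hεC, one_mul]
    have hε0 : (ε : ℂ) ≠ 0 := by
      intro h0
      rw [h0, zero_mul] at hεC
      exact zero_ne_one hεC
    have hA1' : (1 : ℂ) + ε * d θ ≠ 0 := by
      rw [← e1]
      exact mul_ne_zero hε0 hA1
    have key : (Nat.card G : ℂ) * ((ε : ℂ) * d θ - ε * b θ) ^ 2 =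
        5971968 * ((ε : ℂ) * d θ * (ε * d θ + 1)) := by
      have h3 : (ε : ℂ) * ((b (χ 0) : ℂ) ^ 2 / (d (χ 0) : ℂ)) = (1 + ε * b θ) ^ 2 / (1 + ε * d θ) := by
        rw [e3, e4]
        rw [mul_pow, pow_two (ε : ℂ), hεC, one_mul, mul_div_assoc', mul_div_mul_left _ _ hε0]
      have h4 : (ε : ℂ) * ((b θ : ℂ) ^ 2 / (d θ : ℂ)) = (ε * b θ) ^ 2 / (ε * d θ) := by
        rw [mul_pow, pow_two (ε : ℂ), hεC, one_mul, mul_div_assoc',
          div_eq_div_iff hA0 (mul_ne_zero hε0 hA0)]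
        linear_combination (b θ : ℂ) ^ 2 * (d θ : ℂ) * hεC
      rw [h3, h4] at h1
      push_cast at h1
      have hA' : (ε : ℂ) * d θ ≠ 0 := mul_ne_zero hε0 hA0
      generalize (ε : ℂ) * d θ = A at h1 hA1' hA' ⊢
      generalize (ε : ℂ) * b θ = B at h1 ⊢
      field_simp at h1
      linear_combination (-1) * h1
    have key' : (((Nat.card G : ℤ) * (ε * d θ - ε * b θ) ^ 2 : ℤ) : ℂ) =
        ((5971968 * (ε * d θ * (ε * d θ + 1)) : ℤ) : ℂ) := by
      push_cast
      exact key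
    exact_mod_cast key'
  · -- column orthogonality
    have h1 := (Cfsg.Agent.S0145.result z z).1 (IsConj.refl z)
    rw [finsum_eq_sum_of_fintype, ← h.hC, h.card] at h1
    have h2 : (∑ ψ : IrrCharacter G, b ψ * b ψ) = 576 := by
      have h3 : ((∑ ψ : IrrCharacter G, b ψ * b ψ : ℤ) : ℂ) = 576 := by
        rw [← (by exact_mod_cast h1 : ∑ ψ : IrrCharacter G, (ψ : G → ℂ) z * conj ((ψ : G → ℂ) z) = 576)]
        push_cast
        refine Finset.sum_congr rfl fun ψ _ => ?_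
        rw [hb, Complex.conj_eq_iff_im.2 (by simp)]
      exact_mod_cast h3
    have h3 : ∑ i ∈ ({e, θ, χ 0, χ 1, χ 2, χ 3} : Finset (IrrCharacter G)), b i * b i ≤ ∑ i, b i * b i :=
      Finset.sum_le_sum_of_subset_of_nonneg (Finset.subset_univ _) (fun j _ _ => mul_self_nonneg _)
    rw [h2, Finset.sum_insert (by
        simp [S.θe.symm, (S.χe 0).symm, (S.χe 1).symm, (S.χe 2).symm, (S.χe 3).symm]),
      Finset.sum_insert (by simp [(S.ne 0).symm, (S.ne 1).symm, (S.ne 2).symm, (S.ne 3).symm]),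
      Finset.sum_insert (by
        simp [S.inj 0 1 (by decide), S.inj 0 2 (by decide), S.inj 0 3 (by decide)]),
      Finset.sum_insert (by simp [S.inj 1 2 (by decide), S.inj 1 3 (by decide)]),
      Finset.sum_insert (by simp [S.inj 2 3 (by decide)]), Finset.sum_singleton, hbe] at h3
    have h4 : ∀ j, b (χ j) * b (χ j) = (1 + ε * b θ) ^ 2 := by
      intro j
      rw [← hbχ j, mul_pow, pow_two ε, hεε, one_mul, pow_two]
    have h5 : b θ * b θ = (ε * b θ) ^ 2 := by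
      rw [mul_pow, pow_two ε, hεε, one_mul, pow_two]
    rw [h4, h4, h4, h4, h5] at h3
    linarith
  · have h1 : ((d θ : ℕ) : ℤ) ∣ (Nat.card G : ℤ) := by exact_mod_cast apply_one_dvd θ (d θ) (hd θ)
    rcases hε1 with h2 | h2 <;> rw [h2]
    · rwa [one_mul]
    · rwa [neg_one_mul, neg_dvd]
  · have h1 : ((d (χ 0) : ℕ) : ℤ) ∣ (Nat.card G : ℤ) := by exact_mod_cast apply_one_dvd (χ 0) (d (χ 0)) (hd _)
    rw [add_comm, ← hdχ 0]
    rcases hε1 with h2 | h2 <;> rw [h2]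
    · rwa [one_mul]
    · rwa [neg_one_mul, neg_dvd]
  · -- the congruence
    have hθC : IsCharacter C (fun c : C => (θ : G → ℂ) c) :=
      isCharacter_comp C.subtype (isIrr_isCharacter θ.2)
    obtain ⟨N, hN⟩ := classInner_isNat (char_hl Φ) hθC
    -- the kernel of `Φ`
    have hker : ∀ c : C, Φ c = 1 ↔ c = 1 ∨ c = ⟨z, h.z_mem⟩ := by
      have h1 := h.card_fiber (w := 1) (mem_W.2 (by decide))
      have h2 : ({1, ⟨z, h.z_mem⟩} : Finset C) ⊆ Finset.univ.filter (fun c : C => Φ c = 1) := by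
        intro c hc
        rw [Finset.mem_filter]
        refine ⟨Finset.mem_univ _, ?_⟩
        rcases Finset.mem_insert.1 hc with rfl | hc
        · exact map_one Φ
        · rw [Finset.mem_singleton] at hc
          rw [hc]
          exact h.phiz _ rfl
      have hne1 : (1 : C) ≠ ⟨z, h.z_mem⟩ := fun e => hz1 (congrArg Subtype.val e).symm
      have h3 : ({1, ⟨z, h.z_mem⟩} : Finset C).card = 2 := Finset.card_pair hne1
      have h4 := Finset.eq_of_subset_of_card_le h2 (by rw [h1, h3])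
      intro c
      have h5 : c ∈ ({1, ⟨z, h.z_mem⟩} : Finset C) ↔ c ∈ Finset.univ.filter (fun c : C => Φ c = 1) := by rw [h4]
      simpa using h5.symm
    have hpt : ∀ c : C, (9 : ℂ) * hl Φ c = (if Φ c = 1 then 288 else 0) -
        2 * (dl Φ 0 c + dl Φ 1 c + dl Φ 2 c + dl Φ 3 c) - 6 * (fl Φ 0 c + fl Φ 1 c) := by
      intro c
      have h1 := hh_eq (h.sgn c)
      simp only [hl, dl, fl]
      have h2 : ((9 * hh (Φ c) : ℤ) : ℂ) = (((if Φ c = 1 then 288 else 0) -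
          2 * (del 0 (Φ c) + del 1 (Φ c) + del 2 (Φ c) + del 3 (Φ c)) -
          6 * (ff 0 (Φ c) + ff 1 (Φ c)) : ℤ) : ℂ) := by rw [h1]
      push_cast at h2
      rw [h2]
    have hsum : (9 : ℂ) * classInner (hl Φ) (fun c : C => (θ : G → ℂ) c) =
        288 * ((576 : ℂ)⁻¹ * ((d θ : ℂ) + b θ)) - 2 * (m 0 θ + m 1 θ + m 2 θ + m 3 θ) - 6 * (n 0 θ + n 1 θ) := by
      rw [← hcoef _ _ (hm 0) θ, ← hcoef _ _ (hm 1) θ, ← hcoef _ _ (hm 2) θ, ← hcoef _ _ (hm 3) θ,
        ← hcoef _ _ (hn 0) θ, ← hcoef _ _ (hn 1) θ]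
      have hk : (d θ : ℂ) + b θ = ∑ c : C, (if Φ c = 1 then (1 : ℂ) else 0) * conj ((θ : G → ℂ) c) := by
        have h1 : ∀ c : C, (if Φ c = 1 then (1 : ℂ) else 0) * conj ((θ : G → ℂ) c) =
            if c ∈ ({1, ⟨z, h.z_mem⟩} : Finset C) then conj ((θ : G → ℂ) c) else 0 := by
          intro c
          by_cases hc : Φ c = 1
          · rw [if_pos hc, one_mul, if_pos]
            simpa using (hker c).1 hc
          · rw [if_neg hc, zero_mul, if_neg]
            intro h2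
            exact hc ((hker c).2 (by simpa using h2))
        rw [Finset.sum_congr rfl (fun c _ => h1 c), Finset.sum_ite_mem, Finset.univ_inter,
          Finset.sum_pair (fun e => hz1 (congrArg Subtype.val e).symm)]
        simp only [Subgroup.coe_one]
        rw [hd, hb, Complex.conj_natCast, Complex.conj_eq_iff_im.2 (by simp)]
      rw [hk]
      unfold classInner
      rw [h.card]
      have h1 : ∀ c : C, (9 : ℂ) * (hl Φ c * conj ((θ : G → ℂ) c)) =
          288 * ((if Φ c = 1 then (1 : ℂ) else 0) * conj ((θ : G → ℂ) c)) -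
          2 * (dl Φ 0 c * conj ((θ : G → ℂ) c) + dl Φ 1 c * conj ((θ : G → ℂ) c) +
            dl Φ 2 c * conj ((θ : G → ℂ) c) + dl Φ 3 c * conj ((θ : G → ℂ) c)) -
          6 * (fl Φ 0 c * conj ((θ : G → ℂ) c) + fl Φ 1 c * conj ((θ : G → ℂ) c)) := by
        intro c
        rw [← mul_assoc, hpt c]
        split_ifs <;> ring
      rw [mul_left_comm, Finset.mul_sum, Finset.sum_congr rfl (fun c _ => h1 c)]
      simp only [Finset.sum_sub_distrib, Finset.sum_add_distrib, ← Finset.mul_sum]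
      push_cast
      ring
    rw [hN, S.apply_θ, S.apply_θ, S.apply_θ, S.apply_θ, hnθ, hnθ] at hsum
    have h1 : ((d θ : ℤ) + b θ : ℤ) = 18 * N - 16 * ε := by
      have h2 : (((d θ : ℤ) + b θ : ℤ) : ℂ) = ((18 * N - 16 * ε : ℤ) : ℂ) := by
        push_cast at hsum ⊢
        linear_combination 2 * hsum.symm
      exact_mod_cast h2
    refine ⟨ε * N - 1, ?_⟩
    have h2 : ε * (d θ : ℤ) + ε * b θ = ε * (18 * N - 16 * ε) := by rw [← mul_add, h1]
    rw [h2]
    linear_combination (-16) * hεε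

end Setup

end Cfsg.Agent.LargeExtra.W2.CharKill
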