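import Cfsg.Agent.LargeExtra.W2.CharKill.ClassAlg
import Cfsg.Agent.LargeExtra.W2.CharKill.Comb
import Cfsg.Agent.LargeExtra.W2.CharKill.Model
import Cfsg.Agent.S0157
import Cfsg.Agent.S0145
import Cfsg.Agent.S0135
import Cfsg.Agent.CharactersDeep.FeitOddAux

/-!
# The character argument: generalised characters of `C = C_G(z)` (helper860)
-/

set_option autoImplicit false
open Cfsg

namespace Cfsg.Agent.LargeExtra.W2.CharKill

open Cfsg.Agent.Characters.Core Cfsg.Agent.CharactersDeep.IndFun
open scoped ComplexConjugate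

universe u

/-- The data: `Φ` maps `C = C_G(z)` onto the group `W` of order 288 with kernel `⟨z⟩`. -/
structure Setup {G : Type u} [Group G] (z : G) (C : Subgroup G) (Φ : C →* S4 × S4) : Prop where
  hC : C = Subgroup.centralizer ({z} : Set G)
  card : Nat.card C = 576
  ord : orderOf z = 2
  sgn : ∀ c, od (Φ c).1 = od (Φ c).2
  surj : ∀ w : S4 × S4, od w.1 = od w.2 → ∃ c, Φ c = w
  phiz : ∀ c : C, (c : G) = z → Φ c = 1
  inv : ∀ c, TT (Φ c) = true → c * c = 1
  /-- involutions of `Q` -/
  sqV : ∀ c, VV (Φ c) = true → (c * c = 1 ↔ ((Φ c).1 = 1 ↔ (Φ c).2 = 1))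
  cls : ∀ t : G, orderOf t = 2 → IsConj z t
  ti : TIset C (fun c => Dw (Φ c) = true)

namespace Setup

variable {G : Type u} [Group G] {z : G} {C : Subgroup G} {Φ : C →* S4 × S4}

theorem z_mem (h : Setup z C Φ) : z ∈ C := by
  rw [h.hC, Subgroup.mem_centralizer_singleton_iff]

open scoped Classical in
/-- all fibres of `Φ` over `W` have two elements -/
theorem _root_.Cfsg.Agent.LargeExtra.W2.CharKill.card_fiber_aux [Fintype C] (hcard : Nat.card C = 576)
    (hsgn : ∀ c, od (Φ c).1 = od (Φ c).2) (hsurj : ∀ w : S4 × S4, od w.1 = od w.2 → ∃ c, Φ c = w)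
    {w : S4 × S4} (hw : w ∈ W) :
    (Finset.univ.filter (fun c : C => Φ c = w)).card = 2 := by
  have h1 : ∀ w ∈ W, (Finset.univ.filter (fun c : C => Φ c = w)).card =
      (Finset.univ.filter (fun c : C => Φ c = 1)).card := by
    intro w hw
    obtain ⟨c0, hc0⟩ := hsurj w (mem_W.1 hw)
    refine Finset.card_bij' (fun c _ => c0⁻¹ * c) (fun c _ => c0 * c) ?_ ?_ ?_ ?_
    · intro c hc
      have h2 : Φ c = w := (Finset.mem_filter.1 hc).2
      refine Finset.mem_filter.2 ⟨Finset.mem_univ _, ?_⟩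
      rw [map_mul, map_inv, h2, hc0, inv_mul_cancel]
    · intro c hc
      have h2 : Φ c = 1 := (Finset.mem_filter.1 hc).2
      refine Finset.mem_filter.2 ⟨Finset.mem_univ _, ?_⟩
      rw [map_mul, h2, hc0, mul_one]
    · intro c _
      group
    · intro c _
      group
  have h2 : (Finset.univ : Finset C).card = ∑ w ∈ W, (Finset.univ.filter (fun c : C => Φ c = w)).card :=
    Finset.card_eq_sum_card_fiberwise (fun c _ => by
      show Φ c ∈ W
      exact mem_W.2 (hsgn c))
  rw [Finset.sum_congr rfl h1, Finset.sum_const, card_W, Finset.card_univ, ← Nat.card_eq_fintype_card, hcard,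
    smul_eq_mul] at h2
  rw [h1 w hw]
  omega

/-- the kernel of `Φ` -/
theorem _root_.Cfsg.Agent.LargeExtra.W2.CharKill.ker_aux [Finite C] (hcard : Nat.card C = 576)
    (hsgn : ∀ c, od (Φ c).1 = od (Φ c).2) (hsurj : ∀ w : S4 × S4, od w.1 = od w.2 → ∃ c, Φ c = w)
    (hz : z ∈ C) (hz1 : z ≠ 1) (hΦ : Φ ⟨z, hz⟩ = 1) (c : C) : Φ c = 1 ↔ c = 1 ∨ c = ⟨z, hz⟩ := by
  classical
  have := Fintype.ofFinite C
  have h1 := card_fiber_aux hcard hsgn hsurj (w := 1) (mem_W.2 (by decide))
  have h2 : ({1, ⟨z, hz⟩} : Finset C) ⊆ Finset.univ.filter (fun c : C => Φ c = 1) := by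
    intro c hc
    rw [Finset.mem_filter]
    refine ⟨Finset.mem_univ _, ?_⟩
    rcases Finset.mem_insert.1 hc with rfl | hc
    · exact map_one Φ
    · rw [Finset.mem_singleton] at hc
      rw [hc]
      exact hΦ
  have hne1 : (1 : C) ≠ ⟨z, hz⟩ := fun e => hz1 (congrArg Subtype.val e).symm
  have h3 : ({1, ⟨z, hz⟩} : Finset C).card = 2 := Finset.card_pair hne1
  have h4 := Finset.eq_of_subset_of_card_le h2 (by rw [h1, h3])
  have h5 : c ∈ ({1, ⟨z, hz⟩} : Finset C) ↔ c ∈ Finset.univ.filter (fun c : C => Φ c = 1) := by rw [h4]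
  simpa using h5.symm

open scoped Classical in
/-- all fibres of `Φ` over `W` have two elements -/
theorem card_fiber [Fintype C] (h : Setup z C Φ) {w : S4 × S4} (hw : w ∈ W) :
    (Finset.univ.filter (fun c : C => Φ c = w)).card = 2 :=
  card_fiber_aux h.card h.sgn h.surj hw

theorem z_ne (h : Setup z C Φ) : z ≠ 1 := by
  intro e
  have := h.ord
  rw [e, orderOf_one] at this
  omega

theorem ker [Finite C] (h : Setup z C Φ) (c : C) : Φ c = 1 ↔ c = 1 ∨ c = ⟨z, h.z_mem⟩ :=
  ker_aux h.card h.sgn h.surj h.z_mem h.z_ne (h.phiz _ rfl) c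

/-- number of elements of `C` over a subset of `W` -/
theorem card_comp [Fintype C] (h : Setup z C Φ) (p : S4 × S4 → Bool) :
    (Finset.univ.filter (fun c : C => p (Φ c) = true)).card = 2 * (W.filter (fun w => p w = true)).card := by
  classical
  rw [Finset.card_eq_sum_card_fiberwise (f := fun c : C => Φ c) (t := W.filter (fun w => p w = true))
    (fun c hc => Finset.mem_coe.2 (Finset.mem_filter.2
      ⟨mem_W.2 (h.sgn c), (Finset.mem_filter.1 (Finset.mem_coe.1 hc)).2⟩))]
  rw [Finset.sum_congr rfl (g := fun _ => 2) (fun w hw => ?_), Finset.sum_const, smul_eq_mul, mul_comm]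
  rw [Finset.mem_filter] at hw
  rw [← h.card_fiber hw.1]
  congr 1
  ext c
  simp only [Finset.mem_filter, Finset.mem_univ, true_and]
  constructor
  · exact fun h1 => h1.2
  · intro h1
    exact ⟨by rw [h1]; exact hw.2, h1⟩

/-- summation over `C` of a function of `Φ c` -/
theorem sum_comp [Fintype C] (h : Setup z C Φ) (F : S4 × S4 → ℂ) :
    ∑ c : C, F (Φ c) = 2 * ∑ w ∈ W, F w := by
  classical
  rw [← Finset.sum_fiberwise_of_maps_to (s := Finset.univ) (t := W) (g := fun c : C => Φ c)
    (fun c _ => mem_W.2 (h.sgn c)), Finset.mul_sum]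
  refine Finset.sum_congr rfl fun w hw => ?_
  rw [Finset.sum_congr rfl (g := fun _ => F w) (fun c hc => by rw [(Finset.mem_filter.1 hc).2]), Finset.sum_const,
    h.card_fiber hw, nsmul_eq_mul]
  norm_num

theorem classInner_comp [Fintype C] (h : Setup z C Φ) (f g : S4 × S4 → ℤ) :
    classInner (fun c : C => (f (Φ c) : ℂ)) (fun c : C => (g (Φ c) : ℂ)) = ((∑ w ∈ W, f w * g w : ℤ) : ℂ) / 288 := by
  unfold classInner
  rw [h.card]
  have h1 := h.sum_comp (fun w => ((f w * g w : ℤ) : ℂ))
  have h2 : ∀ c : C, (f (Φ c) : ℂ) * conj ((g (Φ c) : ℂ)) = ((f (Φ c) * g (Φ c) : ℤ) : ℂ) := by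
    intro c
    rw [Complex.conj_eq_iff_im.2 (by simp)]
    push_cast
    rfl
  rw [Finset.sum_congr rfl (fun c _ => h2 c), h1]
  push_cast
  ring

/-! ### characters of `C` -/

/-- the permutation character of an action given by maps -/
theorem isCharacter_of_act (X : Type) [Fintype X] [DecidableEq X] (act : C → X → X) (h1 : ∀ x, act 1 x = x)
    (hm : ∀ a b x, act (a * b) x = act a (act b x)) :
    IsCharacter C (fun c => (((Finset.univ.filter (fun x => act c x = x)).card : ℕ) : ℂ)) := by
  letI : MulAction C X :=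
    { smul := act
      one_smul := h1
      mul_smul := hm }
  have h := Cfsg.Agent.S0157.isCharacter_fixedBy (G := C) X
  convert h using 1
  funext c
  rw [Nat.card_eq_fintype_card]
  congr 1
  rw [Fintype.card_subtype]
  rfl

theorem isCharacter_fix3 (act : C → ZMod 3 → ZMod 3) (h1 : ∀ x, act 1 x = x)
    (hm : ∀ a b x, act (a * b) x = act a (act b x)) : IsCharacter C (fun c => (fix3 (act c) : ℂ)) := by
  have h := isCharacter_of_act (ZMod 3) act h1 hm
  convert h using 1
  funext c
  have h2 : ∀ f : ZMod 3 → ZMod 3, fix3 f = ((Finset.univ.filter (fun x => f x = x)).card : ℤ) := by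
    intro f
    rw [Finset.card_filter]
    have : (Finset.univ : Finset (ZMod 3)) = {0, 1, 2} := by decide
    rw [this, Finset.sum_insert (by decide), Finset.sum_insert (by decide), Finset.sum_singleton]
    unfold fix3
    push_cast
    ring
  rw [h2]
  push_cast
  rfl

theorem isCharacter_fix (f : C →* S4) : IsCharacter C (fun c => (fix (f c) : ℂ)) := by
  have h := isCharacter_of_act (Fin 4) (fun c x => f c x) (fun x => by simp) (fun a b x => by simp)
  convert h using 1
  funext c
  have h2 : ∀ a : S4, fix a = ((Finset.univ.filter (fun x => a x = x)).card : ℤ) := by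
    intro a
    rw [Finset.card_filter]
    have : (Finset.univ : Finset (Fin 4)) = {0, 1, 2, 3} := by decide
    rw [this, Finset.sum_insert (by decide), Finset.sum_insert (by decide), Finset.sum_insert (by decide),
      Finset.sum_singleton]
    unfold fix
    push_cast
    ring
  rw [h2]
  push_cast
  rfl

theorem isCharacter_e2 (Φ : C →* S4 × S4) : IsCharacter C (fun c => (e2 (Φ c) : ℂ)) := by
  have h := isCharacter_of_act Bool (fun c x => xor (od (Φ c).1) x) (fun x => by
    have : od (1 : S4) = false := by decide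
    rw [map_one]
    show xor (od (1 : S4)) x = x
    rw [this]; simp) (fun a b x => by
    rw [map_mul]
    show xor (od ((Φ a).1 * (Φ b).1)) x = _
    rw [od_mul, Bool.xor_assoc])
  convert h using 1
  funext c
  unfold e2
  cases od (Φ c).1 <;> simp

theorem act3_one (j : Fin 4) (x : ZMod 3) : act3 j (1 : S4 × S4) x = x := by
  revert j x; decide

theorem act3_mul (j : Fin 4) {w w' : S4 × S4} (hw : od w.1 = od w.2) (x : ZMod 3) :
    act3 j (w * w') x = act3 j w (act3 j w' x) := by
  match j with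
  | 0 => exact kap_mul _ _ _
  | 1 => exact kap_mul _ _ _
  | 2 =>
    show kap (w.1 * w'.1) x + kap (w.2 * w'.2) 0 = kap w.1 (kap w'.1 x + kap w'.2 0) + kap w.2 0
    rw [kap_mul, kap_mul, kap_affine w.1 (kap w'.1 x), kap_affine w.1 (kap w'.1 x + kap w'.2 0),
      kap_affine w.2 (kap w'.2 0), ← hw]
    cases od w.1 <;> simp <;> ring
  | 3 =>
    show kap (w.1 * w'.1) x - kap (w.2 * w'.2) 0 = kap w.1 (kap w'.1 x - kap w'.2 0) - kap w.2 0
    rw [kap_mul, kap_mul, kap_affine w.1 (kap w'.1 x), kap_affine w.1 (kap w'.1 x - kap w'.2 0),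
      kap_affine w.2 (kap w'.2 0), ← hw]
    cases od w.1 <;> simp <;> ring

/-- `δ_j` as a function on `C` -/
noncomputable def dl (Φ : C →* S4 × S4) (j : Fin 4) : C → ℂ := fun c => (del j (Φ c) : ℂ)

/-- `f_j` as a function on `C` -/
noncomputable def fl (Φ : C →* S4 × S4) (j : Fin 2) : C → ℂ := fun c => (ff j (Φ c) : ℂ)

/-- `h` as a function on `C` -/
noncomputable def hl (Φ : C →* S4 × S4) : C → ℂ := fun c => (hh (Φ c) : ℂ)

theorem gen_mul {f g : C → ℂ} (hf : IsGeneralizedCharacter C f) (hg : IsCharacter C g) :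
    IsGeneralizedCharacter C (f * g) := by
  obtain ⟨a, b, ha, hb, rfl⟩ := hf
  exact ⟨a * g, b * g, isCharacter_mul ha hg, isCharacter_mul hb hg, sub_mul _ _ _⟩

theorem gen_sub {f g : C → ℂ} (hf : IsGeneralizedCharacter C f) (hg : IsGeneralizedCharacter C g) :
    IsGeneralizedCharacter C (f - g) := by
  obtain ⟨a, b, ha, hb, rfl⟩ := hf
  obtain ⟨c, d, hc, hd, rfl⟩ := hg
  exact ⟨a + d, b + c, isCharacter_add ha hd, isCharacter_add hb hc, by ring⟩

theorem gen_of {f : C → ℂ} (hf : IsCharacter C f) : IsGeneralizedCharacter C f :=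
  ⟨f, 0, hf, isCharacter_zero, by simp⟩

theorem gen_dl (h : Setup z C Φ) (j : Fin 4) : IsGeneralizedCharacter C (dl Φ j) := by
  have h1 := isCharacter_fix3 (fun c => act3 j (Φ c)) (fun x => by rw [map_one]; exact act3_one j x)
    (fun a b x => by rw [map_mul]; exact act3_mul j (h.sgn a) x)
  have h2 := isCharacter_e2 Φ
  refine ⟨_, _, h1, isCharacter_add isCharacter_one h2, ?_⟩
  funext c
  simp only [dl, del, Pi.sub_apply, Pi.add_apply, Pi.one_apply]
  push_cast
  ring

theorem gen_fl (h : Setup z C Φ) (j : Fin 2) : IsGeneralizedCharacter C (fl Φ j) := by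
  have h1 := isCharacter_fix ((MonoidHom.fst S4 S4).comp Φ)
  have h2 := isCharacter_fix ((MonoidHom.snd S4 S4).comp Φ)
  match j with
  | 0 =>
    have h3 := gen_sub (gen_mul (h.gen_dl 0) h2) (h.gen_dl 0)
    convert h3 using 1
    funext c
    simp only [fl, ff, dl, Pi.sub_apply, Pi.mul_apply, MonoidHom.comp_apply, MonoidHom.coe_snd]
    push_cast
    ring
  | 1 =>
    have h3 := gen_sub (gen_mul (h.gen_dl 1) h1) (h.gen_dl 1)
    convert h3 using 1
    funext c
    simp only [fl, ff, dl, Pi.sub_apply, Pi.mul_apply, MonoidHom.comp_apply, MonoidHom.coe_fst]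
    push_cast
    ring

theorem char_hl (Φ : C →* S4 × S4) : IsCharacter C (hl Φ) := by
  have h1 := isCharacter_fix ((MonoidHom.fst S4 S4).comp Φ)
  have h2 := isCharacter_fix ((MonoidHom.snd S4 S4).comp Φ)
  have h3 := isCharacter_e2 Φ
  have h4 := isCharacter_mul (isCharacter_mul h1 h2) h3
  convert h4 using 1
  funext c
  simp only [hl, hh, Pi.mul_apply, MonoidHom.comp_apply, MonoidHom.coe_fst, MonoidHom.coe_snd]
  push_cast
  ring

theorem dl_supp (h : Setup z C Φ) (j : Fin 4) (c : C) (hc : dl Φ j c ≠ 0) : Dw (Φ c) = true := by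
  apply supp_del (h.sgn c) (j := j)
  intro e
  apply hc
  simp [dl, e]

theorem fl_supp (h : Setup z C Φ) (j : Fin 2) (c : C) (hc : fl Φ j c ≠ 0) : Dw (Φ c) = true := by
  apply supp_ff (h.sgn c) (j := j)
  intro e
  apply hc
  simp [fl, e]

theorem gen_class {f : C → ℂ} (hf : IsGeneralizedCharacter C f) : IsClassFunction C f := by
  obtain ⟨a, b, ha, hb, rfl⟩ := hf
  intro g x
  simp only [Pi.sub_apply]
  rw [isCharacter_isClassFunction ha, isCharacter_isClassFunction hb]

theorem gen_ind [Fintype G] {f : C → ℂ} (hf : IsGeneralizedCharacter C f) :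
    IsGeneralizedCharacter G (indFun C f) := by
  obtain ⟨a, b, ha, hb, rfl⟩ := hf
  exact ⟨_, _, isCharacter_indFun C ha, isCharacter_indFun C hb, indFun_sub C a b⟩

end Setup

end Cfsg.Agent.LargeExtra.W2.CharKill
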