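import Cfsg.Agent.LargeExtra.W2.ThreeG.Two
import Cfsg.Agent.Lib.InvolutionKernel
import Cfsg.Agent.Lib.KleinOrder

/-!
# The 3-singular elements of `C_G(z)` form a TI set when `C_G(x₁), C_G(x₂) ≤ C_G(z)` (helper860)
-/

set_option autoImplicit false

namespace Cfsg.Agent.LargeExtra.W2.CharKill

open Cfsg Cfsg.Agent.LargeExtra.W2 Cfsg.Agent.LargeExtra.W2.ThreeG.Model
open Cfsg.Agent.LargeExtra.W2.ThreeG.Dec
open Cfsg.Agent.LargeExtra.W2.ThreeG.Main (sub mem_sub F_p comm_z1 comm_z2 comm_zy x1_ne x2_ne)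

/-- codes of `P = ⟨x₁, x₂⟩` -/
def SP : List ℕ := [0, 32, 64, 96, 128, 160, 192, 224, 256]

theorem SP_mul : ∀ a ∈ SP, ∀ b ∈ SP, mm a b ∈ SP := by decide +kernel
theorem SP_lt : ∀ a ∈ SP, a < 576 := by decide +kernel
theorem SP_cube : ∀ a ∈ SP, mm a (mm a a) = 0 := by decide +kernel
theorem SP_comm : ∀ a ∈ SP, ∀ b ∈ SP, mm a b = mm b a := by decide +kernel
theorem SP_z : ∀ a ∈ SP, mm a 16 = mm 16 a := by decide +kernel
theorem SP_y : ∀ a ∈ SP, mm 288 a = mm (mm a a) 288 := by decide +kernel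

/-- the codes of elements of `P` with nontrivial components -/
def SV : List ℕ := [128, 224, 160, 256]

theorem cent_SV : ∀ v ∈ SV, ∀ m < 576, mm m v = mm v m → m ∈ SP ∨ ∃ a ∈ SP, m = mm a 16 := by decide +kernel

theorem cent_P : ∀ m < 576, mm m 32 = mm 32 m → mm m 96 = mm 96 m → mm m m = 0 → m = 0 ∨ m = 16 := by
  decide +kernel

theorem four_SV : ∀ v ∈ SV, ∀ m < 576, mm m v = mm v m → mm (mm m m) (mm m m) = 0 → m = 0 ∨ m = 16 := by
  decide +kernel

theorem SP_cases : ∀ a ∈ SP, a = 0 ∨ (a = 32 ∨ a = 64) ∨ (a = 96 ∨ a = 192) ∨ a ∈ SV := by decide +kernel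

theorem SP_cent_y : ∀ a ∈ SP, mm a 288 = mm 288 a → a = 0 := by decide +kernel

theorem SP_card : SP.Nodup ∧ SP.length = 9 := by decide

variable {G : Type*} [Group G] [Finite G] {Q : Subgroup G} {z i j k l x₁ x₂ y : G}

/-- `P = ⟨x₁, x₂⟩` -/
def PP (h : Case9c Q z i j k l x₁ x₂ y) (hy : y * y = 1) : Subgroup G :=
  sub SP (by decide) SP_lt SP_mul h hy

section
variable (h : Case9c Q z i j k l x₁ x₂ y) (hy : y * y = 1)

theorem mem_PP {g : G} : g ∈ PP h hy ↔ ∃ m ∈ SP, F z i j k l x₁ x₂ y m = g := Iff.rfl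

theorem x1_mem : x₁ ∈ PP h hy := ⟨32, by decide, F_32⟩
theorem x2_mem : x₂ ∈ PP h hy := ⟨96, by decide, F_96⟩

theorem PP_card : Nat.card (PP h hy) = 9 := by
  classical
  have e : (SP.toFinset : Finset ℕ).card = 9 := by
    rw [List.toFinset_card_of_nodup SP_card.1, SP_card.2]
  let f : {m // m ∈ SP.toFinset} → PP h hy := fun m =>
    ⟨F z i j k l x₁ x₂ y m.1, ⟨m.1, List.mem_toFinset.1 m.2, rfl⟩⟩
  have hf : Function.Bijective f := by
    constructor
    · intro a b hab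
      apply Subtype.ext
      exact F_inj h hy (SP_lt _ (List.mem_toFinset.1 a.2)) (SP_lt _ (List.mem_toFinset.1 b.2))
        (congrArg Subtype.val hab)
    · rintro ⟨g, hg⟩
      obtain ⟨m, hm, rfl⟩ := hg
      exact ⟨⟨m, List.mem_toFinset.2 hm⟩, rfl⟩
  rw [← Nat.card_eq_of_bijective f hf, Nat.card_eq_fintype_card, Fintype.card_coe, e]

theorem PP_cube {g : G} (hg : g ∈ PP h hy) : g ^ 3 = 1 := by
  obtain ⟨m, hm, rfl⟩ := hg
  have h1 := SP_cube m hm
  have hl := SP_lt m hm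
  have h2 : F z i j k l x₁ x₂ y (mm m (mm m m)) = 1 := by rw [h1, F_0]
  rw [F_mul h hy hl (mm_lt hl hl), F_mul h hy hl hl] at h2
  calc (F z i j k l x₁ x₂ y m) ^ 3 = F z i j k l x₁ x₂ y m * (F z i j k l x₁ x₂ y m * F z i j k l x₁ x₂ y m) := by
        rw [pow_succ, pow_two, mul_assoc]
    _ = 1 := h2

theorem PP_comm {g g' : G} (hg : g ∈ PP h hy) (hg' : g' ∈ PP h hy) : g * g' = g' * g := by
  obtain ⟨m, hm, rfl⟩ := hg
  obtain ⟨m', hm', rfl⟩ := hg'
  rw [← F_mul h hy (SP_lt m hm) (SP_lt m' hm'), ← F_mul h hy (SP_lt m' hm') (SP_lt m hm), SP_comm m hm m' hm']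

theorem PP_z {g : G} (hg : g ∈ PP h hy) : g * z = z * g := by
  obtain ⟨m, hm, rfl⟩ := hg
  exact F_comm h

theorem PP_y {g : G} (hg : g ∈ PP h hy) : y * g * y⁻¹ = g * g := by
  obtain ⟨m, hm, rfl⟩ := hg
  have h1 := SP_y m hm
  have hl := SP_lt m hm
  have h2 : F z i j k l x₁ x₂ y (mm 288 m) = F z i j k l x₁ x₂ y (mm (mm m m) 288) := by rw [h1]
  rw [F_mul h hy (by norm_num) hl, F_mul h hy (mm_lt hl hl) (by norm_num), F_mul h hy hl hl, F_288] at h2
  rw [h2]; group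

/-- surjectivity of conjugation -/
theorem conj_surj {P : Subgroup G} {n : G} (hn : ∀ p ∈ P, n * p * n⁻¹ ∈ P) {p : G} (hp : p ∈ P) :
    ∃ p' ∈ P, n * p' * n⁻¹ = p := by
  let f : P → P := fun p => ⟨n * p.1 * n⁻¹, hn p.1 p.2⟩
  have hf : Function.Injective f := by
    intro a b hab
    apply Subtype.ext
    have h1 : n * a.1 * n⁻¹ = n * b.1 * n⁻¹ := congrArg Subtype.val hab
    exact mul_left_cancel (mul_right_cancel h1)
  obtain ⟨p', hp'⟩ := (Finite.injective_iff_surjective.1 hf) ⟨p, hp⟩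
  exact ⟨p'.1, p'.2, congrArg Subtype.val hp'⟩

theorem normP_le (h1 : ∀ g, g * x₁ = x₁ * g → g * z = z * g) {n : G}
    (hn : ∀ p ∈ PP h hy, n * p * n⁻¹ ∈ PP h hy) : n * z = z * n := by
  have h2 : ∀ p ∈ PP h hy, (n * z * n⁻¹) * p = p * (n * z * n⁻¹) := by
    intro p hp
    obtain ⟨p', hp', rfl⟩ := conj_surj hn hp
    have h3 := PP_z h hy hp'
    calc (n * z * n⁻¹) * (n * p' * n⁻¹) = n * (z * p') * n⁻¹ := by group
      _ = n * (p' * z) * n⁻¹ := by rw [h3]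
      _ = _ := by group
  have h3 := h1 _ (h2 x₁ (x1_mem h hy))
  obtain ⟨m, hm, he⟩ := exists_code h hy h3
  have h4 : mm m 32 = mm 32 m := by
    apply F_commute h hy hm (by norm_num)
    rw [he, F_32]; exact h2 _ (x1_mem h hy)
  have h5 : mm m 96 = mm 96 m := by
    apply F_commute h hy hm (by norm_num)
    rw [he, F_96]; exact h2 _ (x2_mem h hy)
  have h6 : mm m m = 0 := by
    apply F_inj h hy (mm_lt hm hm) (by norm_num)
    rw [F_mul h hy hm hm, he, F_0]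
    calc (n * z * n⁻¹) * (n * z * n⁻¹) = n * (z * z) * n⁻¹ := by group
      _ = 1 := by rw [h.large.z_sq]; group
  rcases cent_P m hm h4 h5 h6 with h7 | h7
  · exfalso
    rw [h7, F_0] at he
    apply h.large.z_ne
    calc z = n⁻¹ * (n * z * n⁻¹) * n := by group
      _ = 1 := by rw [← he]; group
  · rw [h7, F_16] at he
    calc n * z = (n * z * n⁻¹) * n := by group
      _ = z * n := by rw [← he]

end

end Cfsg.Agent.LargeExtra.W2.CharKill
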