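import Cfsg.Agent.LargeExtra.W2.CharKill.TiN
import Cfsg.Agent.LargeExtra.W2.CharKill.Code

/-!
# The fusion of `P = ⟨x₁, x₂⟩` is controlled by `C_G(z)` (helper860)
-/

set_option autoImplicit false

namespace Cfsg.Agent.LargeExtra.W2.CharKill

open Cfsg Cfsg.Agent.LargeExtra.W2 Cfsg.Agent.LargeExtra.W2.ThreeG.Model
open Cfsg.Agent.LargeExtra.W2.ThreeG.Dec
open Cfsg.Agent.LargeExtra.W2.ThreeG.Main (sub mem_sub F_p comm_z1 comm_z2 comm_zy x1_ne x2_ne)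

/-- the fourth power of a 3-singular element is conjugate to an element of `P` -/
theorem Dw_four : ∀ m < 576, Dw (phi m) = true → ∃ q < 32, ∃ a ∈ SP, a ≠ 0 ∧
    mm q (mm (mm m m) (mm m m)) = mm a q := by decide +kernel

variable {G : Type*} [Group G] [Finite G] {Q : Subgroup G} {z i j k l x₁ x₂ y : G}

section
variable (h : Case9c Q z i j k l x₁ x₂ y) (hy : y * y = 1)
include h hy

theorem fusion (hcls : ∀ t : G, orderOf t = 2 → IsConj z t) (h1 : ∀ g, g * x₁ = x₁ * g → g * z = z * g)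
    (h2 : ∀ g, g * x₂ = x₂ * g → g * z = z * g) {p : G} (hp : p ∈ PP h hy) (hp1 : p ≠ 1) {g : G}
    (hg : g * p * g⁻¹ ∈ PP h hy) : g * z = z * g := by
  have hfact : Fact (Nat.Prime 3) := ⟨Nat.prime_three⟩
  set C : Subgroup G := Subgroup.centralizer ({z} : Set G) with hC
  have memC : ∀ {g : G}, g ∈ C ↔ g * z = z * g := Subgroup.mem_centralizer_singleton_iff
  have hPC : PP h hy ≤ C := fun r hr => memC.2 (PP_z h hy hr)
  have hne : g * p * g⁻¹ ≠ 1 := by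
    intro e
    apply hp1
    calc p = g⁻¹ * (g * p * g⁻¹) * g := by group
      _ = 1 := by rw [e]; group
  -- `g P g⁻¹ ≤ C`
  have hgPC : ∀ r ∈ PP h hy, g * r * g⁻¹ ∈ C := by
    intro r hr
    refine memC.2 (cent_p_le h hy hcls h1 h2 hg hne ?_)
    have := PP_comm h hy hr hp
    calc g * r * g⁻¹ * (g * p * g⁻¹) = g * (r * p) * g⁻¹ := by group
      _ = g * (p * r) * g⁻¹ := by rw [this]
      _ = _ := by group
  let R : Subgroup G := (PP h hy).map (MulAut.conj g).toMonoidHom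
  have hRc : Nat.card R = 9 := by
    rw [← PP_card h hy]
    exact Nat.card_congr ((PP h hy).equivMapOfInjective _ (MulAut.conj g).injective).symm.toEquiv
  have hRC : R ≤ C := by
    rintro _ ⟨r, hr, rfl⟩
    exact hgPC r hr
  have hcC : Nat.card C = 576 := h.card_cent
  have hfac : (576 : ℕ).factorization 3 = 2 := by
    rw [show (576 : ℕ) = 3 ^ 2 * 64 by norm_num,
      Nat.factorization_mul_apply_of_coprime (by norm_num : Nat.Coprime (3 ^ 2) 64),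
      Nat.Prime.factorization_pow Nat.prime_three, Nat.factorization_eq_zero_of_not_dvd (by norm_num)]
    simp
  let S1 : Sylow 3 C := Sylow.ofCard ((PP h hy).subgroupOf C) (by
    rw [hcC, hfac, Nat.card_congr (Subgroup.subgroupOfEquivOfLe hPC).toEquiv, PP_card h hy]; norm_num)
  let S2 : Sylow 3 C := Sylow.ofCard (R.subgroupOf C) (by
    rw [hcC, hfac, Nat.card_congr (Subgroup.subgroupOfEquivOfLe hRC).toEquiv, hRc]; norm_num)
  obtain ⟨c, hc⟩ := MulAction.exists_smul_eq C S2 S1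
  have hc' : ∀ r ∈ PP h hy, (c.1 * g) * r * (c.1 * g)⁻¹ ∈ PP h hy := by
    intro r hr
    have h3 : (⟨g * r * g⁻¹, hgPC r hr⟩ : C) ∈ (S2 : Subgroup C) := by
      show _ ∈ R.subgroupOf C
      exact Subgroup.mem_subgroupOf.2 ⟨r, hr, rfl⟩
    have h4 : c * ⟨g * r * g⁻¹, hgPC r hr⟩ * c⁻¹ ∈ (S1 : Subgroup C) := by
      rw [← hc]
      exact Subgroup.smul_mem_pointwise_smul _ (MulAut.conj c) _ h3
    have h5 : c.1 * (g * r * g⁻¹) * c.1⁻¹ ∈ PP h hy := Subgroup.mem_subgroupOf.1 h4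
    have h6 : c.1 * (g * r * g⁻¹) * c.1⁻¹ = (c.1 * g) * r * (c.1 * g)⁻¹ := by group
    rwa [h6] at h5
  have h7 := normP_le h hy h1 hc'
  have h8 : c.1 * g ∈ C := memC.2 h7
  have h9 : g ∈ C := (Subgroup.mul_mem_cancel_left C c.2).1 h8
  exact memC.1 h9

/-- TI -/
theorem ti (hcls : ∀ t : G, orderOf t = 2 → IsConj z t) (h1 : ∀ g, g * x₁ = x₁ * g → g * z = z * g)
    (h2 : ∀ g, g * x₂ = x₂ * g → g * z = z * g) {m n : ℕ} (hm : m < 576) (hn : n < 576)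
    (hDm : Dw (phi m) = true) (hDn : Dw (phi n) = true) {g : G}
    (hg : g * F z i j k l x₁ x₂ y m * g⁻¹ = F z i j k l x₁ x₂ y n) : g * z = z * g := by
  have four : ∀ m < 576, F z i j k l x₁ x₂ y (mm (mm m m) (mm m m)) =
      F z i j k l x₁ x₂ y m * F z i j k l x₁ x₂ y m * (F z i j k l x₁ x₂ y m * F z i j k l x₁ x₂ y m) := by
    intro m hm
    rw [F_mul h hy (mm_lt hm hm) (mm_lt hm hm), F_mul h hy hm hm]
  obtain ⟨q, hq, a, ha, ha0, he⟩ := Dw_four m hm hDm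
  obtain ⟨q', hq', a', ha', ha0', he'⟩ := Dw_four n hn hDn
  have e1 : F z i j k l x₁ x₂ y q * F z i j k l x₁ x₂ y (mm (mm m m) (mm m m)) =
      F z i j k l x₁ x₂ y a * F z i j k l x₁ x₂ y q := by
    rw [← F_mul h hy (by omega) (mm_lt (mm_lt hm hm) (mm_lt hm hm)), he, F_mul h hy (SP_lt a ha) (by omega)]
  have e2 : F z i j k l x₁ x₂ y q' * F z i j k l x₁ x₂ y (mm (mm n n) (mm n n)) =
      F z i j k l x₁ x₂ y a' * F z i j k l x₁ x₂ y q' := by
    rw [← F_mul h hy (by omega) (mm_lt (mm_lt hn hn) (mm_lt hn hn)), he', F_mul h hy (SP_lt a' ha') (by omega)]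
  rw [four m hm] at e1
  rw [four n hn, ← hg] at e2
  have hpa : F z i j k l x₁ x₂ y a ∈ PP h hy := ⟨a, ha, rfl⟩
  have hpa' : F z i j k l x₁ x₂ y a' ∈ PP h hy := ⟨a', ha', rfl⟩
  have hpa1 : F z i j k l x₁ x₂ y a ≠ 1 := by
    intro e
    exact ha0 (F_inj h hy (SP_lt a ha) (by norm_num) (by rw [e, F_0]))
  have hqz : F z i j k l x₁ x₂ y q * z = z * F z i j k l x₁ x₂ y q := F_comm h
  have hqz' : F z i j k l x₁ x₂ y q' * z = z * F z i j k l x₁ x₂ y q' := F_comm h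
  generalize F z i j k l x₁ x₂ y q = Fq at e1 hqz
  generalize F z i j k l x₁ x₂ y q' = Fq' at e2 hqz'
  generalize F z i j k l x₁ x₂ y a = Fa at e1 hpa hpa1
  generalize F z i j k l x₁ x₂ y a' = Fa' at e2 hpa'
  generalize F z i j k l x₁ x₂ y m = Fm at e1 e2
  have h3 : (Fq' * g * Fq⁻¹) * Fa * (Fq' * g * Fq⁻¹)⁻¹ = Fa' := by
    calc (Fq' * g * Fq⁻¹) * Fa * (Fq' * g * Fq⁻¹)⁻¹ = Fq' * g * Fq⁻¹ * (Fa * Fq) * g⁻¹ * Fq'⁻¹ := by group
      _ = Fq' * g * Fq⁻¹ * (Fq * (Fm * Fm * (Fm * Fm))) * g⁻¹ * Fq'⁻¹ := by rw [e1]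
      _ = (Fq' * (g * Fm * g⁻¹ * (g * Fm * g⁻¹) * (g * Fm * g⁻¹ * (g * Fm * g⁻¹)))) * Fq'⁻¹ := by group
      _ = Fa' * Fq' * Fq'⁻¹ := by rw [e2]
      _ = Fa' := by group
  have h4 := fusion h hy hcls h1 h2 hpa hpa1 (g := Fq' * g * Fq⁻¹) (by rw [h3]; exact hpa')
  have memC : ∀ {g : G}, g ∈ Subgroup.centralizer ({z} : Set G) ↔ g * z = z * g :=
    Subgroup.mem_centralizer_singleton_iff
  have h5 : Fq' * g * Fq⁻¹ ∈ Subgroup.centralizer ({z} : Set G) := memC.2 h4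
  have h6 : Fq ∈ Subgroup.centralizer ({z} : Set G) := memC.2 hqz
  have h7 : Fq' ∈ Subgroup.centralizer ({z} : Set G) := memC.2 hqz'
  have h8 : g ∈ Subgroup.centralizer ({z} : Set G) := by
    have h9 := Subgroup.mul_mem _ (Subgroup.mul_mem _ (Subgroup.inv_mem _ h7) h5) h6
    have h10 : Fq'⁻¹ * (Fq' * g * Fq⁻¹) * Fq = g := by group
    rwa [h10] at h9
  exact memC.1 h8

end

end Cfsg.Agent.LargeExtra.W2.CharKill
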