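import Cfsg.Agent.LargeExtra.W2.CharKill.Ti

/-!
# `C_G(p) ≤ C_G(z)` for `p ∈ P = ⟨x₁, x₂⟩`, `p ≠ 1` (helper860)
-/

set_option autoImplicit false

namespace Cfsg.Agent.LargeExtra.W2.CharKill

open Cfsg Cfsg.Agent.LargeExtra.W2 Cfsg.Agent.LargeExtra.W2.ThreeG.Model
open Cfsg.Agent.LargeExtra.W2.ThreeG.Dec
open Cfsg.Agent.LargeExtra.W2.ThreeG.Main (sub mem_sub F_p comm_z1 comm_z2 comm_zy x1_ne x2_ne)

variable {G : Type*} [Group G] [Finite G] {Q : Subgroup G} {z i j k l x₁ x₂ y : G}

omit [Finite G] in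
theorem card_cent_conj {a b : G} (h : IsConj a b) :
    Nat.card (Subgroup.centralizer ({a} : Set G)) = Nat.card (Subgroup.centralizer ({b} : Set G)) := by
  obtain ⟨c, hc⟩ := isConj_iff.1 h
  refine Nat.card_congr ⟨fun g => ⟨c * g.1 * c⁻¹, ?_⟩, fun g => ⟨c⁻¹ * g.1 * c, ?_⟩, ?_, ?_⟩
  · have := Subgroup.mem_centralizer_singleton_iff.1 g.2
    rw [Subgroup.mem_centralizer_singleton_iff, ← hc]
    calc c * g.1 * c⁻¹ * (c * a * c⁻¹) = c * (g.1 * a) * c⁻¹ := by group
      _ = c * (a * g.1) * c⁻¹ := by rw [this]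
      _ = _ := by group
  · have := Subgroup.mem_centralizer_singleton_iff.1 g.2
    rw [Subgroup.mem_centralizer_singleton_iff]
    calc c⁻¹ * g.1 * c * a = c⁻¹ * (g.1 * (c * a * c⁻¹)) * c := by group
      _ = c⁻¹ * ((c * a * c⁻¹) * g.1) * c := by rw [hc, this]
      _ = _ := by group
  · intro g
    apply Subtype.ext
    show c⁻¹ * (c * g.1 * c⁻¹) * c = g.1
    group
  · intro g
    apply Subtype.ext
    show c * (c⁻¹ * g.1 * c) * c⁻¹ = g.1
    group

theorem odd_dvd_nine {n : ℕ} (hn : Odd n) (hd : n ∣ 576) : n ∣ 9 := by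
  have h1 : (576 : ℕ) = 9 * 64 := by norm_num
  rw [h1] at hd
  refine Nat.Coprime.dvd_of_dvd_mul_right ?_ hd
  have h2 : (64 : ℕ) = 2 ^ 6 := by norm_num
  rw [h2]
  exact Nat.Coprime.pow_right 6 (Nat.coprime_two_right.2 hn)

section
variable (h : Case9c Q z i j k l x₁ x₂ y) (hy : y * y = 1)
include h hy

theorem y_ne : y ≠ 1 := by
  intro e
  have h1 := F_inj h hy (m := 288) (n := 0) (by norm_num) (by norm_num) (by rw [F_288, F_0, e])
  omega

theorem zy_ne : z * y ≠ 1 := by
  intro e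
  have h1 := F_inj h hy (m := 304) (n := 0) (by norm_num) (by norm_num) (by rw [F_304, F_0, e])
  omega

/-- `C_G(v) ≤ C_G(z)` for `v = x₁ x₂` etc. -/
theorem cent_v_le (hcls : ∀ t : G, orderOf t = 2 → IsConj z t) (h1 : ∀ g, g * x₁ = x₁ * g → g * z = z * g)
    {m : ℕ} (hm : m ∈ SV) {g : G} (hg : g * F z i j k l x₁ x₂ y m = F z i j k l x₁ x₂ y m * g) : g * z = z * g := by
  have hSV : ∀ m ∈ SV, m < 576 ∧ m ∈ SP := by decide +kernel
  have hlt := (hSV m hm).1
  have hmP := (hSV m hm).2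
  set v := F z i j k l x₁ x₂ y m with hv
  have hvP : v ∈ PP h hy := ⟨m, hmP, rfl⟩
  have hvz : v * z = z * v := PP_z h hy hvP
  let H : Subgroup G := Subgroup.centralizer {v}
  have memH : ∀ {g : G}, g ∈ H ↔ g * v = v * g := Subgroup.mem_centralizer_singleton_iff
  have hzH : z ∈ H := memH.2 hvz.symm
  have hzz : z * z = 1 := h.large.z_sq
  -- `4` does not divide `|C_H(z)|`
  have h4 : ¬ 4 ∣ Nat.card (Subgroup.centralizer ({(⟨z, hzH⟩ : H)} : Set H)) := by
    intro h4
    have : Fact (Nat.Prime 2) := ⟨Nat.prime_two⟩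
    obtain ⟨E, hE⟩ := Sylow.exists_subgroup_card_pow_prime 2 (n := 2) (G := Subgroup.centralizer ({(⟨z, hzH⟩ : H)} : Set H)) h4
    have hE4 : ∀ e ∈ E, e = 1 ∨ (e.1.1 : G) = z := by
      intro e he
      have h5 : e.1.1 * z = z * e.1.1 := by
        have := Subgroup.mem_centralizer_singleton_iff.1 e.2
        exact congrArg Subtype.val this
      have h6 : e.1.1 * v = v * e.1.1 := memH.1 e.1.2
      obtain ⟨n, hn, hne⟩ := exists_code h hy h5
      have h7 : mm n m = mm m n := by
        apply F_commute h hy hn hlt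
        rw [hne]; exact h6
      have h8 : e.1.1 ^ 4 = 1 := by
        have h9 : (⟨e, he⟩ : E) ^ Nat.card E = 1 := pow_card_eq_one'
        rw [hE] at h9
        have h10 : e ^ 4 = 1 := congrArg Subtype.val h9
        have h11 : (e ^ 4).1.1 = (1 : G) := by rw [h10]; rfl
        exact h11
      have h9 : mm (mm n n) (mm n n) = 0 := by
        apply F_inj h hy (mm_lt (mm_lt hn hn) (mm_lt hn hn)) (by norm_num)
        rw [F_mul h hy (mm_lt hn hn) (mm_lt hn hn), F_mul h hy hn hn, hne, F_0, ← h8]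
        simp only [pow_succ, pow_zero, one_mul, mul_assoc]
      rcases four_SV m hm n hn h7 h9 with h10 | h10
      · left
        rw [h10, F_0] at hne
        apply Subtype.ext
        apply Subtype.ext
        exact hne.symm
      · right
        rw [h10, F_16] at hne
        exact hne.symm
    have hE2 : Nat.card E ≤ 2 := by
      classical
      let f : E → Bool := fun e => decide (e.1 = 1)
      have hf : Function.Injective f := by
        intro a b hab
        have hab' : a.1 = 1 ↔ b.1 = 1 := decide_eq_decide.1 hab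
        apply Subtype.ext
        by_cases ha : a.1 = 1
        · rw [ha, hab'.1 ha]
        · have h12 := (hE4 a.1 a.2).resolve_left ha
          have h13 := (hE4 b.1 b.2).resolve_left (fun e => ha (hab'.2 e))
          apply Subtype.ext
          apply Subtype.ext
          rw [h12, h13]
      have := Nat.card_le_card_of_injective f hf
      simpa using this
    rw [hE] at hE2
    norm_num at hE2
  have ht2 : (⟨z, hzH⟩ : H) * ⟨z, hzH⟩ = 1 := Subtype.ext hzz
  have ht1 : (⟨z, hzH⟩ : H) ≠ 1 := fun e => h.large.z_ne (congrArg Subtype.val e)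
  obtain ⟨K, hKn, hKo, hKi, hK⟩ := Cfsg.Agent.Lib.InvolutionKernel.exists_odd_index_two ht2 ht1 h4
  -- `M`
  let M : Subgroup G := K.map H.subtype
  have memM : ∀ {g : G}, g ∈ M ↔ g * v = v * g ∧ Odd (orderOf g) := by
    intro g
    constructor
    · rintro ⟨x, hx, rfl⟩
      refine ⟨memH.1 x.2, ?_⟩
      have := (hK x).1 hx
      rwa [← Subgroup.orderOf_coe] at this
    · rintro ⟨h5, h6⟩
      refine ⟨⟨g, memH.2 h5⟩, (hK _).2 ?_, rfl⟩
      rwa [← Subgroup.orderOf_coe]
  have hMc : Nat.card M = Nat.card K :=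
    Nat.card_congr (K.equivMapOfInjective H.subtype H.subtype_injective).symm.toEquiv
  have hMo : Odd (Nat.card M) := by rw [hMc]; exact hKo
  have oconj : ∀ c g : G, orderOf (c * g * c⁻¹) = orderOf g := by
    intro c g
    have := orderOf_injective (MulAut.conj c).toMonoidHom (MulAut.conj c).injective g
    simpa [MulAut.conj_apply] using this
  have hzM : ∀ g ∈ M, z * g * z⁻¹ ∈ M := by
    intro g hg
    rw [memM] at hg ⊢
    refine ⟨?_, by rw [oconj]; exact hg.2⟩
    have := hg.1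
    calc z * g * z⁻¹ * v = z * g * (z⁻¹ * (v * z) * z⁻¹) := by group
      _ = z * g * (z⁻¹ * (z * v) * z⁻¹) := by rw [hvz]
      _ = z * (g * v) * z⁻¹ := by group
      _ = z * (v * g) * z⁻¹ := by rw [this]
      _ = (z * v) * g * z⁻¹ := by group
      _ = (v * z) * g * z⁻¹ := by rw [hvz]
      _ = _ := by group
  have hv3 : v * v * v = 1 := by
    have := PP_cube h hy hvP
    rw [pow_succ, pow_two] at this
    exact this
  have hyv : y * v * y⁻¹ = v * v := PP_y h hy hvP
  have hyM : ∀ g ∈ M, y * g * y⁻¹ ∈ M := by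
    intro g hg
    rw [memM] at hg ⊢
    refine ⟨?_, by rw [oconj]; exact hg.2⟩
    have h5 := hg.1
    have h6 : (y * g * y⁻¹) * (v * v) = (v * v) * (y * g * y⁻¹) := by
      rw [← hyv]
      calc y * g * y⁻¹ * (y * v * y⁻¹) = y * (g * v) * y⁻¹ := by group
        _ = y * (v * g) * y⁻¹ := by rw [h5]
        _ = _ := by group
    have h7 : (v * v) * (v * v) = v := by
      calc (v * v) * (v * v) = v * (v * v * v) := by group
        _ = v := by rw [hv3, mul_one]
    generalize y * g * y⁻¹ = g' at h6 ⊢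
    generalize v * v = v2 at h6 h7
    rw [← h7]
    exact ((show Commute g' v2 from h6).mul_right h6).eq
  have hzy := comm_zy h
  have key := Cfsg.Agent.Lib.KleinOrder.card_klein M hMo hzz hy hzy hzM hyM
  -- the three cardinalities divide nine
  have dv : ∀ t : G, t * t = 1 → t ≠ 1 → Nat.card (M ⊓ Subgroup.centralizer {t} : Subgroup G) ∣ 9 := by
    intro t ht ht'
    apply odd_dvd_nine
    · exact Odd.of_dvd_nat hMo (Subgroup.card_dvd_of_le inf_le_left)
    · have h5 : Nat.card (Subgroup.centralizer ({t} : Set G)) = 576 := by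
        have ho : orderOf t = 2 := orderOf_eq_prime (by rw [sq]; exact ht) ht'
        rw [← card_cent_conj (hcls t ho)]
        exact h.card_cent
      rw [← h5]
      exact Subgroup.card_dvd_of_le inf_le_right
  have hzyzy : (z * y) * (z * y) = 1 := by
    calc (z * y) * (z * y) = z * (y * z) * y := by group
      _ = z * (z * y) * y := by rw [hzy]
      _ = (z * z) * (y * y) := by group
      _ = 1 := by rw [hzz, hy, one_mul]
  have d1 := dv z hzz h.large.z_ne
  have d2 := dv y hy (y_ne h hy)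
  have d3 := dv (z * y) hzyzy (zy_ne h hy)
  have hdvd : Nat.card M ∣ 3 ^ 6 := by
    have h5 : Nat.card M ∣ 9 * 9 * 9 :=
      (Dvd.intro _ key).trans (mul_dvd_mul (mul_dvd_mul d1 d2) d3)
    simpa using h5
  have : Fact (Nat.Prime 3) := ⟨Nat.prime_three⟩
  have hMp : IsPGroup 3 M := by
    obtain ⟨n, _, hn⟩ := (Nat.dvd_prime_pow Nat.prime_three).1 hdvd
    exact IsPGroup.of_card hn
  -- `P ≤ M`
  have hPM : PP h hy ≤ M := by
    intro p hp
    refine memM.2 ⟨PP_comm h hy hp hvP, ?_⟩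
    exact Odd.of_dvd_nat (by decide : Odd 3) (orderOf_dvd_of_pow_eq_one (PP_cube h hy hp))
  -- `M ∩ C(z) = P`
  have hMz : ∀ g ∈ M, g * z = z * g → g ∈ PP h hy := by
    intro g hg hgz
    obtain ⟨n, hn, hne⟩ := exists_code h hy hgz
    have h7 : mm n m = mm m n := by
      apply F_commute h hy hn hlt
      rw [hne]; exact (memM.1 hg).1
    rcases cent_SV m hm n hn h7 with h8 | ⟨a, ha, h8⟩
    · exact ⟨n, h8, hne⟩
    · exfalso
      rw [h8, F_mul h hy (SP_lt a ha) (by norm_num), F_16] at hne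
      have ho := (memM.1 hg).2
      have h9 : F z i j k l x₁ x₂ y a ∈ PP h hy := ⟨a, ha, rfl⟩
      have h10 := PP_cube h hy h9
      have h11 := PP_z h hy h9
      have h12 : g ^ 3 = z := by
        rw [← hne, Commute.mul_pow h11, h10, one_mul, pow_succ, pow_two, hzz, one_mul]
      have h13 : Odd (orderOf (g ^ 3)) := Odd.of_dvd_nat ho (orderOf_pow_dvd 3)
      rw [h12, orderOf_eq_prime (by rw [sq]; exact hzz) h.large.z_ne] at h13
      exact absurd h13 (by decide)
  have hMP : M ≤ PP h hy := by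
    by_contra hcon
    have hnil : Group.IsNilpotent M := hMp.isNilpotent
    have hnc := Group.normalizerCondition_of_isNilpotent (G := M)
    have hlt' : (PP h hy).subgroupOf M < ⊤ := by
      rw [lt_top_iff_ne_top]
      intro e
      exact hcon (Subgroup.subgroupOf_eq_top.1 e)
    have hlt2 := hnc _ hlt'
    obtain ⟨n, hn1, hn2⟩ := SetLike.exists_of_lt hlt2
    apply hn2
    have hn3 : ∀ p ∈ PP h hy, n.1 * p * n.1⁻¹ ∈ PP h hy := by
      intro p hp
      have h5 := (Subgroup.mem_normalizer_iff.1 hn1 ⟨p, hPM hp⟩).1 (Subgroup.mem_subgroupOf.2 hp)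
      exact Subgroup.mem_subgroupOf.1 h5
    have h6 := normP_le h hy h1 hn3
    exact Subgroup.mem_subgroupOf.2 (hMz n.1 n.2 h6)
  -- conclusion
  have hgH : g ∈ H := memH.2 hg
  by_cases hgK : (⟨g, hgH⟩ : H) ∈ K
  · exact PP_z h hy (hMP ⟨⟨g, hgH⟩, hgK, rfl⟩)
  · have htK : (⟨z, hzH⟩ : H) ∉ K := by
      intro e
      have h5 := (hK _).1 e
      rw [← Subgroup.orderOf_coe, orderOf_eq_prime (by rw [sq]; exact hzz) h.large.z_ne] at h5
      exact absurd h5 (by decide)
    have h6 : (⟨g, hgH⟩ : H) * ⟨z, hzH⟩ ∈ K := by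
      have h7 := (Subgroup.mul_mem_iff_of_index_two hKi (a := (⟨g, hgH⟩ : H)) (b := ⟨z, hzH⟩))
      rw [h7]
      exact iff_of_false hgK htK
    have h8 : g * z ∈ PP h hy := hMP ⟨_, h6, rfl⟩
    have h9 := PP_z h hy h8
    exact mul_right_cancel (by rw [h9]; group)

theorem cent_p_le (hcls : ∀ t : G, orderOf t = 2 → IsConj z t) (h1 : ∀ g, g * x₁ = x₁ * g → g * z = z * g)
    (h2 : ∀ g, g * x₂ = x₂ * g → g * z = z * g) {p : G} (hp : p ∈ PP h hy) (hp1 : p ≠ 1) {g : G}
    (hg : g * p = p * g) : g * z = z * g := by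
  have hpp : g * (p * p) = (p * p) * g := ((show Commute g p from hg).mul_right hg).eq
  obtain ⟨m, hm, rfl⟩ := hp
  rcases SP_cases m hm with h3 | (h3 | h3) | (h3 | h3) | h3
  · exact absurd (by rw [h3, F_0]) hp1
  · rw [h3, F_32] at hg
    exact h1 g hg
  · have h4 : mm m m = 32 := by rw [h3]; decide
    rw [← F_mul h hy (SP_lt m hm) (SP_lt m hm), h4, F_32] at hpp
    exact h1 g hpp
  · rw [h3, F_96] at hg
    exact h2 g hg
  · have h4 : mm m m = 96 := by rw [h3]; decide
    rw [← F_mul h hy (SP_lt m hm) (SP_lt m hm), h4, F_96] at hpp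
    exact h2 g hpp
  · exact cent_v_le h hy hcls h1 h3 hg

end

end Cfsg.Agent.LargeExtra.W2.CharKill
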